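import Mathlib

/-!
# Permutations of a line with a point at infinity, and the projective groups as such permutations
-/

set_option autoImplicit false

namespace Cfsg.Agent.Perm.Zassenhaus

open scoped MatrixGroups

section Additive

variable {V : Type*} [AddGroup V]

/-- a translation -/
def tr (a : V) : Equiv.Perm (Option V) := (Equiv.addLeft a).optionCongr

@[simp] theorem tr_none (a : V) : tr a none = none := rfl

@[simp] theorem tr_some (a x : V) : tr a (some x) = some (a + x) := rfl

theorem tr_inv (a : V) : (tr a)⁻¹ = tr (-a) := by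
  rw [inv_eq_iff_mul_eq_one]
  ext x; cases x <;> simp [Equiv.Perm.mul_apply]

theorem tr_add (a b : V) : tr (a + b) = tr a * tr b := by
  ext x; cases x <;> simp [Equiv.Perm.mul_apply, add_assoc]

/-- A group of permutations of the line is below another one as soon as its stabilizer of `∞`
and `0` is, provided both contain the translations and a common swap. -/
theorem le_of_stab {G R : Subgroup (Equiv.Perm (Option V))} (htG : ∀ a, tr a ∈ G)
    (htR : ∀ a, tr a ∈ R) {w : Equiv.Perm (Option V)} (hwG : w ∈ G) (hwR : w ∈ R)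
    (hw : w none = some 0)
    (hstab : ∀ g ∈ G, g none = none → g (some 0) = some 0 → g ∈ R) : G ≤ R := by
  have hfix : ∀ g ∈ G, g none = none → g ∈ R := by
    intro g hg h
    obtain ⟨v, hv⟩ : ∃ v, g (some 0) = some v := by
      cases hgv : g (some 0) with
      | none => exact absurd (g.injective (hgv.trans h.symm)) (Option.some_ne_none 0)
      | some v => exact ⟨v, rfl⟩
    have h1 : tr (-v) * g ∈ R := hstab _ (mul_mem (htG _) hg)
      (by simp [Equiv.Perm.mul_apply, h]) (by simp [Equiv.Perm.mul_apply, hv])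
    have := mul_mem (htR v) h1
    rwa [← mul_assoc, ← tr_inv, mul_inv_cancel, one_mul] at this
  intro g hg
  cases hgv : g none with
  | none => exact hfix g hg hgv
  | some v =>
    have h1 : w⁻¹ * tr (-v) * g ∈ R := hfix _ (mul_mem (mul_mem (inv_mem hwG) (htG _)) hg) (by
      rw [Equiv.Perm.mul_apply, Equiv.Perm.mul_apply, hgv, tr_some, neg_add_cancel,
        Equiv.Perm.inv_eq_iff_eq, hw])
    have := mul_mem (mul_mem (htR v) hwR) h1
    rwa [mul_assoc, ← mul_assoc w, ← mul_assoc w, mul_inv_cancel, one_mul, ← mul_assoc, ← tr_inv,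
      mul_inv_cancel, one_mul] at this

end Additive

section Field

variable {K : Type*} [Field K] [DecidableEq K]

/-- multiplication by a unit -/
def mulP (u : Kˣ) : Equiv.Perm (Option K) := (Units.mulLeft u).optionCongr

@[simp] theorem mulP_none (u : Kˣ) : mulP u none = none := rfl

@[simp] theorem mulP_some (u : Kˣ) (x : K) : mulP u (some x) = some (u * x) := rfl

/-- the Moebius transformations -/
def mobius (K : Type*) [Field K] [DecidableEq K] : GL (Fin 2) K →* Equiv.Perm (Option K) :=
  MulAction.toPermHom (GL (Fin 2) K) (OnePoint K)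

/-- the matrix with given entries -/
def mk2 (a b c d : K) (h : a * d - b * c ≠ 0) : GL (Fin 2) K :=
  Matrix.GeneralLinearGroup.mkOfDetNeZero !![a, b; c, d] (by rw [Matrix.det_fin_two_of]; exact h)

theorem mobius_none (g : GL (Fin 2) K) :
    mobius K g none = if g 1 0 = 0 then none else some (g 0 0 / g 1 0) := by
  refine (OnePoint.smul_infty_eq_ite g).trans ?_
  rfl

theorem mobius_some (g : GL (Fin 2) K) (x : K) :
    mobius K g (some x) = if g 1 0 * x + g 1 1 = 0 then none
      else some ((g 0 0 * x + g 0 1) / (g 1 0 * x + g 1 1)) := by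
  refine (OnePoint.smul_some_eq_ite (g := g) (k := x)).trans ?_
  rfl

/-- `x ↦ -1/x` -/
def negInv (K : Type*) [Field K] [DecidableEq K] : Equiv.Perm (Option K) :=
  mobius K (mk2 0 (-1) 1 0 (by simp))

theorem negInv_none : negInv K none = some 0 := by simp [negInv, mobius_none, mk2]

theorem negInv_zero : negInv K (some 0) = none := by simp [negInv, mobius_some, mk2]

theorem negInv_some {x : K} (hx : x ≠ 0) : negInv K (some x) = some (-1 / x) := by
  simp [negInv, mobius_some, mk2, hx]

theorem mobius_tr (a : K) : mobius K (mk2 1 a 0 1 (by simp)) = tr a := by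
  ext1 x; cases x with
  | none => simp [mobius_none, mk2]
  | some x => simp [mobius_some, mk2, add_comm]

/-- the special linear group inside the general one -/
def slMobius (K : Type*) [Field K] [DecidableEq K] : SL(2, K) →* Equiv.Perm (Option K) :=
  (mobius K).comp Matrix.SpecialLinearGroup.toGL

theorem mobius_eq_one_iff (g : GL (Fin 2) K) :
    mobius K g = 1 ↔ g 1 0 = 0 ∧ g 0 1 = 0 ∧ g 0 0 = g 1 1 := by
  constructor
  · intro h
    have hc : g 1 0 = 0 := by
      have := congrFun (congrArg DFunLike.coe h) none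
      rw [mobius_none, Equiv.Perm.one_apply] at this
      by_contra hc
      rw [if_neg hc] at this
      exact Option.some_ne_none _ this
    have hd : g 1 1 ≠ 0 := fun hd => g.det_ne_zero (by rw [Matrix.det_fin_two, hc, hd]; ring)
    have h0 := congrFun (congrArg DFunLike.coe h) (some 0)
    have h1 := congrFun (congrArg DFunLike.coe h) (some 1)
    simp [mobius_some, hc, hd] at h0 h1
    refine ⟨hc, h0, ?_⟩
    simpa [h0, div_eq_one_iff_eq hd] using h1
  · rintro ⟨hc, hb, ha⟩
    have hd : g 1 1 ≠ 0 := fun hd => g.det_ne_zero (by rw [Matrix.det_fin_two, hc, hd]; ring)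
    ext1 x; cases x with
    | none => simp [mobius_none, hc]
    | some x => simp [mobius_some, hc, hb, ha, hd]

theorem slMobius_ker : (slMobius K).ker = Subgroup.center SL(2, K) := by
  ext A
  rw [MonoidHom.mem_ker, slMobius, MonoidHom.comp_apply, mobius_eq_one_iff,
    Matrix.SpecialLinearGroup.mem_center_iff]
  show A.1 1 0 = 0 ∧ A.1 0 1 = 0 ∧ A.1 0 0 = A.1 1 1 ↔ _
  constructor
  · rintro ⟨hc, hb, ha⟩
    refine ⟨A.1 0 0, ?_, ?_⟩
    · have h := A.2
      rw [Matrix.det_fin_two, hc, hb, ← ha] at h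
      simpa [pow_two] using h
    · ext i j; fin_cases i <;> fin_cases j <;> simp [hc, hb, ha]
  · rintro ⟨r, -, hr⟩
    rw [← hr]
    simp

theorem mobius_ker : (mobius K).ker = Subgroup.center (GL (Fin 2) K) := by
  ext g
  rw [MonoidHom.mem_ker, mobius_eq_one_iff,
    Matrix.GeneralLinearGroup.mem_center_iff_val_mem_range_scalar]
  constructor
  · rintro ⟨hc, hb, ha⟩
    refine ⟨g 0 0, ?_⟩
    ext i j; fin_cases i <;> fin_cases j <;> simp [hc, hb, ha]
  · rintro ⟨r, hr⟩
    rw [← hr]
    simp

theorem diag_stab {g : GL (Fin 2) K} (h : mobius K g none = none)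
    (h0 : mobius K g (some 0) = some 0) :
    g 1 0 = 0 ∧ g 0 1 = 0 ∧ g 1 1 ≠ 0 := by
  have hc : g 1 0 = 0 := by
    by_contra hc
    rw [mobius_none, if_neg hc] at h
    exact Option.some_ne_none _ h
  have hd : g 1 1 ≠ 0 := fun hd => g.det_ne_zero (by rw [Matrix.det_fin_two, hc, hd]; ring)
  refine ⟨hc, ?_, hd⟩
  simpa [mobius_some, hc, hd] using h0

theorem mobius_diag (a d : K) (h : a * d - 0 * 0 ≠ 0) (u : Kˣ) (hu : (u : K) * d = a) :
    mobius K (mk2 a 0 0 d h) = mulP u := by
  have hd : d ≠ 0 := fun e => h (by rw [e]; ring)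
  ext1 x; cases x with
  | none => simp [mobius_none, mk2]
  | some x =>
    simp [mobius_some, mk2, hd]
    field_simp
    rw [← hu]; ring

/-- Recognition of `PSL(2, K)` as a group of permutations of the line. -/
theorem psl_iso (G : Subgroup (Equiv.Perm (Option K))) (ht : ∀ a, tr a ∈ G)
    (hsq : ∀ u : Kˣ, mulP (u * u) ∈ G) (hw : negInv K ∈ G)
    (hstab : ∀ g ∈ G, g none = none → g (some 0) = some 0 → ∃ u : Kˣ, g = mulP (u * u)) :
    Nonempty (G ≃* Matrix.ProjectiveSpecialLinearGroup (Fin 2) K) := by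
  have htR : ∀ a, tr a ∈ (slMobius K).range := fun a =>
    ⟨⟨!![1, a; 0, 1], by simp [Matrix.det_fin_two_of]⟩, by
      rw [← mobius_tr]
      exact congrArg (mobius K) (Units.ext rfl)⟩
  have hwR : negInv K ∈ (slMobius K).range :=
    ⟨⟨!![0, -1; 1, 0], by simp [Matrix.det_fin_two_of]⟩, congrArg (mobius K) (Units.ext rfl)⟩
  have heq : (slMobius K).range = G := by
    refine le_antisymm (le_of_stab htR ht hwR hw negInv_none ?_)
      (le_of_stab ht htR hw hwR negInv_none ?_)
    · rintro _ ⟨A, rfl⟩ h h0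
      obtain ⟨hc, hb, hd⟩ := diag_stab (g := Matrix.SpecialLinearGroup.toGL A) h h0
      change A.1 1 0 = 0 at hc
      change A.1 0 1 = 0 at hb
      have hdet := A.2
      rw [Matrix.det_fin_two, hc, hb, mul_zero, sub_zero] at hdet
      have ha : A.1 0 0 ≠ 0 := left_ne_zero_of_mul_eq_one hdet
      convert hsq (Units.mk0 _ ha) using 1
      rw [← mobius_diag (A.1 0 0) (A.1 1 1) (by simp [hdet]) (Units.mk0 _ ha * Units.mk0 _ ha)
        (by simp [mul_assoc, hdet])]
      refine congrArg (mobius K) (Units.ext ?_)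
      show A.1 = !![A.1 0 0, 0; 0, A.1 1 1]
      conv_lhs => rw [Matrix.eta_fin_two A.1, hc, hb]
    · intro g hg h h0
      obtain ⟨u, rfl⟩ := hstab g hg h h0
      refine ⟨⟨!![(u : K), 0; 0, ((u⁻¹ : Kˣ) : K)], by simp [Matrix.det_fin_two_of]⟩, ?_⟩
      rw [← mobius_diag (u : K) ((u⁻¹ : Kˣ) : K) (by simp) (u * u) (by simp [mul_assoc])]
      exact congrArg (mobius K) (Units.ext rfl)
  exact ⟨((QuotientGroup.quotientMulEquivOfEq slMobius_ker.symm).trans
    ((QuotientGroup.quotientKerEquivRange (slMobius K)).trans (MulEquiv.subgroupCongr heq))).symm⟩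

/-- Recognition of `PGL(2, K)` as a group of permutations of the line. -/
theorem pgl_iso (G : Subgroup (Equiv.Perm (Option K))) (ht : ∀ a, tr a ∈ G)
    (hsq : ∀ u : Kˣ, mulP u ∈ G) (hw : negInv K ∈ G)
    (hstab : ∀ g ∈ G, g none = none → g (some 0) = some 0 → ∃ u : Kˣ, g = mulP u) :
    Nonempty (G ≃* Matrix.ProjGenLinGroup (Fin 2) K) := by
  have htR : ∀ a, tr a ∈ (mobius K).range := fun a => ⟨_, mobius_tr a⟩
  have hwR : negInv K ∈ (mobius K).range := ⟨_, rfl⟩
  have heq : (mobius K).range = G := by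
    refine le_antisymm (le_of_stab htR ht hwR hw negInv_none ?_)
      (le_of_stab ht htR hw hwR negInv_none ?_)
    · rintro _ ⟨g, rfl⟩ h h0
      obtain ⟨hc, hb, hd⟩ := diag_stab h h0
      have ha : g 0 0 ≠ 0 := fun ha => g.det_ne_zero (by rw [Matrix.det_fin_two, ha, hc]; ring)
      convert hsq (Units.mk0 (g 0 0 / g 1 1) (div_ne_zero ha hd)) using 1
      rw [← mobius_diag (g 0 0) (g 1 1) (by simp [ha, hd]) _ (by simp [hd])]
      refine congrArg (mobius K) (Units.ext ?_)
      show g.1 = !![g 0 0, 0; 0, g 1 1]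
      conv_lhs => rw [Matrix.eta_fin_two g.1]
      rw [hc, hb]
    · intro g hg h h0
      obtain ⟨u, rfl⟩ := hstab g hg h h0
      exact ⟨_, mobius_diag (u : K) 1 (by simp) u (mul_one _)⟩
  exact ⟨((QuotientGroup.quotientMulEquivOfEq mobius_ker.symm).trans
    ((QuotientGroup.quotientKerEquivRange (mobius K)).trans (MulEquiv.subgroupCongr heq))).symm⟩

end Field

end Cfsg.Agent.Perm.Zassenhaus
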