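import Mathlib
import Cfsg.Agent.Lib.Perm.Zassenhaus.Line

/-!
# Groups on a line whose stabilizer of `∞` is translations by an abelian group and automorphisms

The basic identity: for a swap `w` commuting with negation, the element attached to a point
determines the point up to sign, and it is inverted by `w`.
-/

set_option autoImplicit false

namespace Cfsg.Agent.Perm.Zassenhaus

variable {V : Type*} [AddCommGroup V]

/-- translations, with additive fixed-point-free stabilizer of `∞` and `0` -/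
structure Core (G : Subgroup (Equiv.Perm (Option V))) : Prop where
  tr_mem : ∀ a, tr a ∈ G
  lin : ∀ g ∈ G, g none = none → g (some 0) = some 0 →
    ∃ φ : V ≃+ V, ∀ x, g (some x) = some (φ x)
  free : ∀ g ∈ G, g none = none → g (some 0) = some 0 → ∀ x : V, x ≠ 0 →
    g (some x) = some x → g = 1

/-- an involution exchanging `∞` and `0` -/
structure Swap (G : Subgroup (Equiv.Perm (Option V))) (w : Equiv.Perm (Option V)) : Prop where
  mem : w ∈ G
  none' : w none = some 0
  sq : w * w = 1

/-- the stabilizer of `∞` and `0` -/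
def stab (G : Subgroup (Equiv.Perm (Option V))) : Subgroup (Equiv.Perm (Option V)) where
  carrier := {g | g ∈ G ∧ g none = none ∧ g (some 0) = some 0}
  one_mem' := ⟨one_mem _, rfl, rfl⟩
  mul_mem' {a b} ha hb := ⟨mul_mem ha.1 hb.1, by rw [Equiv.Perm.mul_apply, hb.2.1, ha.2.1], by
    rw [Equiv.Perm.mul_apply, hb.2.2, ha.2.2]⟩
  inv_mem' {a} ha := ⟨inv_mem ha.1, by rw [Equiv.Perm.inv_eq_iff_eq, ha.2.1], by
    rw [Equiv.Perm.inv_eq_iff_eq, ha.2.2]⟩

/-- the finite part of a permutation -/
def pt (g : Equiv.Perm (Option V)) (x : V) : V := (g (some x)).getD 0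

theorem pt_eq {g : Equiv.Perm (Option V)} {x y : V} (h : g (some x) = some y) : pt g x = y := by
  rw [pt, h, Option.getD_some]

theorem pt_tr (a x : V) : pt (tr a) x = a + x := rfl

variable {G : Subgroup (Equiv.Perm (Option V))}

theorem Core.apply_stab (hG : Core G) {g : Equiv.Perm (Option V)} (hg : g ∈ stab G) (x : V) :
    g (some x) = some (pt g x) := by
  obtain ⟨φ, hφ⟩ := hG.lin g hg.1 hg.2.1 hg.2.2
  rw [pt_eq (hφ x), hφ]

theorem Core.pt_add (hG : Core G) {g : Equiv.Perm (Option V)} (hg : g ∈ stab G) (x y : V) :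
    pt g (x + y) = pt g x + pt g y := by
  obtain ⟨φ, hφ⟩ := hG.lin g hg.1 hg.2.1 hg.2.2
  rw [pt_eq (hφ x), pt_eq (hφ y), pt_eq (hφ _), map_add]

theorem Core.pt_zero {g : Equiv.Perm (Option V)} (hg : g ∈ stab G) : pt g 0 = 0 :=
  pt_eq hg.2.2

theorem Core.pt_neg (hG : Core G) {g : Equiv.Perm (Option V)} (hg : g ∈ stab G) (x : V) :
    pt g (-x) = -pt g x := by
  refine eq_neg_of_add_eq_zero_left ?_
  rw [← hG.pt_add hg, neg_add_cancel, Core.pt_zero hg]

theorem Core.pt_mul (hG : Core G) {g h : Equiv.Perm (Option V)} (hg : g ∈ stab G)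
    (hh : h ∈ stab G) (x : V) : pt (g * h) x = pt g (pt h x) :=
  pt_eq (by rw [Equiv.Perm.mul_apply, hG.apply_stab hh, hG.apply_stab hg])

theorem Core.eq_of_pt (hG : Core G) {g h : Equiv.Perm (Option V)} (hg : g ∈ stab G)
    (hh : h ∈ stab G) {x : V} (hx : x ≠ 0) (e : pt g x = pt h x) : g = h := by
  have hm := mul_mem (inv_mem hh) hg
  refine (inv_mul_eq_one.1 (hG.free _ hm.1 hm.2.1 hm.2.2 x hx ?_)).symm
  rw [Equiv.Perm.mul_apply, Equiv.Perm.inv_eq_iff_eq, hG.apply_stab hg, hG.apply_stab hh, e]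

variable {w : Equiv.Perm (Option V)}

theorem Swap.inv (hw : Swap G w) : w⁻¹ = w := inv_eq_of_mul_eq_one_right hw.sq

theorem Swap.apply_apply (hw : Swap G w) (z : Option V) : w (w z) = z := by
  rw [← Equiv.Perm.mul_apply, hw.sq, Equiv.Perm.one_apply]

theorem Swap.zero (hw : Swap G w) : w (some 0) = none := by
  rw [← hw.none', hw.apply_apply]

theorem Swap.apply_some (hw : Swap G w) {x : V} (hx : x ≠ 0) :
    w (some x) = some (pt w x) ∧ pt w x ≠ 0 := by
  cases h : w (some x) with
  | none => exact absurd (Option.some.inj (w.injective (h.trans hw.zero.symm))) hx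
  | some y =>
    rw [pt_eq h]
    refine ⟨rfl, fun hy => ?_⟩
    rw [hy, ← hw.none'] at h
    exact Option.some_ne_none _ (w.injective h)

theorem Swap.pt_pt (hw : Swap G w) {x : V} (hx : x ≠ 0) : pt w (pt w x) = x :=
  pt_eq (by rw [← (hw.apply_some hx).1, hw.apply_apply])

theorem Swap.conj_mem (hw : Swap G w) {h : Equiv.Perm (Option V)} (hh : h ∈ stab G) :
    w * h * w ∈ stab G := by
  refine ⟨mul_mem (mul_mem hw.mem hh.1) hw.mem, ?_, ?_⟩
  · rw [Equiv.Perm.mul_apply, Equiv.Perm.mul_apply, hw.none', hh.2.2, hw.zero]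
  · rw [Equiv.Perm.mul_apply, Equiv.Perm.mul_apply, hw.zero, hh.2.1, hw.none']

/-- the element attached to a point -/
def phi (w : Equiv.Perm (Option V)) (a : V) : Equiv.Perm (Option V) :=
  tr (-pt w a) * (w * tr a * w) * tr (-pt w a) * w

section Neg

variable (hG : Core G) (hw : Swap G w) (hneg : ∀ x : V, x ≠ 0 → pt w (-x) = -pt w x)
include hG hw hneg

theorem phi_mem {a : V} (ha : a ≠ 0) : phi w a ∈ stab G := by
  obtain ⟨e, hne⟩ := hw.apply_some ha
  refine ⟨mul_mem (mul_mem (mul_mem (hG.tr_mem _)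
    (mul_mem (mul_mem hw.mem (hG.tr_mem _)) hw.mem)) (hG.tr_mem _)) hw.mem, ?_, ?_⟩
  · simp only [phi, Equiv.Perm.mul_apply, hw.none', tr_some, add_zero]
    rw [(hw.apply_some (neg_ne_zero.2 hne)).1, hneg _ hne, hw.pt_pt ha, tr_some, add_neg_cancel,
      hw.zero, tr_none]
  · simp only [phi, Equiv.Perm.mul_apply, hw.zero, tr_none, hw.none', tr_some, add_zero, e,
      neg_add_cancel]

theorem phi_apply {a : V} (ha : a ≠ 0) : pt (phi w a) a = -pt w a := by
  obtain ⟨e, -⟩ := hw.apply_some ha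
  refine pt_eq ?_
  simp only [phi, Equiv.Perm.mul_apply, e, tr_some, neg_add_cancel, hw.zero, tr_none, hw.none',
    add_zero]

theorem phi_neg {a : V} (ha : a ≠ 0) : phi w (-a) = phi w a := by
  refine hG.eq_of_pt (phi_mem hG hw hneg (neg_ne_zero.2 ha)) (phi_mem hG hw hneg ha)
    (neg_ne_zero.2 ha) ?_
  rw [phi_apply hG hw hneg (neg_ne_zero.2 ha), hG.pt_neg (phi_mem hG hw hneg ha),
    phi_apply hG hw hneg ha, hneg _ ha]

/-- the attached elements are inverted by the swap -/
theorem phi_inverted {a : V} (ha : a ≠ 0) : w * phi w a * w = (phi w a)⁻¹ := by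
  conv_lhs => rw [← phi_neg hG hw hneg ha, phi, hneg _ ha, neg_neg]
  rw [phi, mul_inv_rev, mul_inv_rev, mul_inv_rev, mul_inv_rev, mul_inv_rev, tr_inv, tr_inv,
    neg_neg, hw.inv]
  simp only [← mul_assoc]
  rw [mul_assoc _ w w, hw.sq, mul_one]

/-- the basic identity -/
theorem identity {a b : V} (ha : a ≠ 0) (hb : b ≠ 0) (hs : pt w a + pt w b ≠ 0) :
    pt w a + pt (phi w a) (pt w (pt w a + pt w b)) =
      pt w b + pt (phi w b) (pt w (pt w a + pt w b)) := by
  have key : ∀ x : V, x ≠ 0 → w * tr x * w = tr (pt w x) * phi w x * w * tr (pt w x) := by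
    intro x _
    simp only [phi, ← mul_assoc, ← tr_inv, mul_inv_cancel, one_mul]
    rw [mul_assoc _ w w, hw.sq, mul_one, inv_mul_cancel_right]
  have h0 : ∀ x : V, x ≠ 0 → (w * tr x * w) none = some (pt w x) := fun x hx => by
    simp only [Equiv.Perm.mul_apply, hw.none', tr_some, add_zero, (hw.apply_some hx).1]
  have h1 : ∀ x y : V, x ≠ 0 → y ≠ 0 → pt w x + pt w y ≠ 0 →
      (w * tr (x + y) * w) none = some (pt w x + pt (phi w x) (pt w (pt w x + pt w y))) := by
    intro x y hx hy hxy
    have e : w * tr (x + y) * w = (w * tr x * w) * (w * tr y * w) := by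
      rw [tr_add]
      simp only [mul_assoc]
      rw [← mul_assoc w w, hw.sq, one_mul]
    rw [e, Equiv.Perm.mul_apply, h0 y hy, key x hx]
    simp only [Equiv.Perm.mul_apply, tr_some, (hw.apply_some hxy).1,
      hG.apply_stab (phi_mem hG hw hneg hx)]
  have := (h1 a b ha hb hs).symm.trans
    (add_comm a b ▸ h1 b a hb ha (by rwa [add_comm]))
  rw [add_comm (pt w b) (pt w a)] at this
  exact Option.some.inj this

theorem eq_or_eq_neg {a b : V} (ha : a ≠ 0) (hb : b ≠ 0) (e : phi w a = phi w b) :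
    a = b ∨ a = -b := by
  by_cases hs : pt w a + pt w b = 0
  · right
    have := congrArg (pt w) (eq_neg_of_add_eq_zero_left hs)
    rwa [hneg _ (hw.apply_some hb).2, hw.pt_pt ha, hw.pt_pt hb] at this
  · left
    have h := identity hG hw hneg ha hb hs
    rw [e] at h
    have := congrArg (pt w) (add_right_cancel h)
    rwa [hw.pt_pt ha, hw.pt_pt hb] at this

/-- many elements of the stabilizer are inverted -/
theorem card_inverted [Finite V] (c : ℕ) (hc : ∀ b : V, b ≠ 0 → Nat.card {a : V // a = b ∨ a = -b} ≤ c) :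
    Nat.card {x : V // x ≠ 0} ≤
      c * Nat.card {h : stab G // w * (h : Equiv.Perm (Option V)) * w = (h : Equiv.Perm (Option V))⁻¹} := by
  classical
  haveI : Fintype V := Fintype.ofFinite V
  haveI : Fintype {h : stab G // w * (h : Equiv.Perm (Option V)) * w =
      (h : Equiv.Perm (Option V))⁻¹} := Fintype.ofFinite _
  let f : {x : V // x ≠ 0} → {h : stab G //
      w * (h : Equiv.Perm (Option V)) * w = (h : Equiv.Perm (Option V))⁻¹} :=
    fun x => ⟨⟨phi w x, phi_mem hG hw hneg x.2⟩, phi_inverted hG hw hneg x.2⟩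
  rw [Nat.card_eq_fintype_card, Nat.card_eq_fintype_card]
  refine (Finset.card_le_mul_card_image (f := f) Finset.univ c fun y hy => ?_).trans
    (Nat.mul_le_mul_left c (Finset.card_le_univ _))
  obtain ⟨b, -, rfl⟩ := Finset.mem_image.1 hy
  refine le_trans ?_ (hc b b.2)
  rw [← Fintype.card_subtype, ← Nat.card_eq_fintype_card]
  refine Nat.card_le_card_of_injective
    (fun a => (⟨(a.1 : V), eq_or_eq_neg hG hw hneg a.1.2 b.2
      (congrArg (fun z => ((z.1 : stab G) : Equiv.Perm (Option V))) a.2)⟩ :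
      {a : V // a = (b : V) ∨ a = -(b : V)}))
    fun a a' e => Subtype.ext (Subtype.ext (by simpa using congrArg (fun z => (z.1 : V)) e))

/-- if the inverted elements are as many as possible, all elements are inverted -/
theorem all_inverted [Finite V] (c : ℕ) (hc : ∀ b : V, b ≠ 0 → Nat.card {a : V // a = b ∨ a = -b} ≤ c)
    (hcard : c * Nat.card (stab G) ≤ Nat.card {x : V // x ≠ 0}) (hc0 : 0 < c) :
    ∀ h ∈ stab G, w * h * w = h⁻¹ := by
  classical
  intro h hh
  by_contra hne
  haveI : Fintype (stab G) := Fintype.ofFinite _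
  have hlt : Nat.card {k : stab G // w * (k : Equiv.Perm (Option V)) * w =
      (k : Equiv.Perm (Option V))⁻¹} < Nat.card (stab G) := by
    rw [Nat.card_eq_fintype_card, Nat.card_eq_fintype_card]
    exact Fintype.card_subtype_lt (x := ⟨h, hh⟩) hne
  have h1 := Nat.mul_lt_mul_of_pos_left hlt hc0
  have h2 := card_inverted hG hw hneg c hc
  omega

end Neg

theorem comm_of_inverted {w : Equiv.Perm (Option V)} (hw : Swap G w)
    (hinv : ∀ h ∈ stab G, w * h * w = h⁻¹) {g h : Equiv.Perm (Option V)} (hg : g ∈ stab G)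
    (hh : h ∈ stab G) : g * h = h * g := by
  have e := hinv _ (mul_mem hg hh)
  have e' : w * (g * h) * w = (w * g * w) * (w * h * w) := by
    simp only [mul_assoc]
    rw [← mul_assoc w w (h * w), hw.sq, one_mul]
  rw [e', hinv g hg, hinv h hh, mul_inv_rev] at e
  have := congrArg (·⁻¹) e
  simp only [mul_inv_rev, inv_inv] at this
  exact this.symm

end Cfsg.Agent.Perm.Zassenhaus
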