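import Mathlib
import Cfsg.Agent.Lib.Perm.Zassenhaus.Setup

/-!
# The field of a group on a line with abelian two-point stabilizer
-/

set_option autoImplicit false

namespace Cfsg.Agent.Perm.Zassenhaus

/-- a finite field has a copy among the small types -/
theorem exists_small_copy (S : Type*) [Field S] [Finite S] :
    ∃ (K : Type) (_ : Field K) (_ : Fintype K), Nonempty (K ≃+* S) := by
  obtain ⟨n, ⟨ε⟩⟩ := Finite.exists_equiv_fin S
  exact ⟨Fin n, ε.symm.field, inferInstance, ⟨ε.symm.ringEquiv⟩⟩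

variable {V : Type*} [AddCommGroup V] {G : Subgroup (Equiv.Perm (Option V))}

/-- the stabilizer acting by endomorphisms -/
noncomputable def endHom (hG : Core G) : stab G →* AddMonoid.End V where
  toFun h := AddMonoidHom.mk' (pt (h : Equiv.Perm (Option V))) (hG.pt_add h.2)
  map_one' := AddMonoidHom.ext fun x => rfl
  map_mul' g h := AddMonoidHom.ext fun x => hG.pt_mul g.2 h.2 x

theorem endHom_apply (hG : Core G) (h : stab G) (x : V) :
    endHom hG h x = pt (h : Equiv.Perm (Option V)) x := rfl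

variable [Finite V]

/-- an invariant subgroup with a nonzero element is everything -/
theorem invariant_eq_top_of_le (hG : Core G) {A : Subgroup (Equiv.Perm (Option V))}
    (hA : A ≤ stab G) (hbig : Nat.card V - 1 ≤ 2 * Nat.card A)
    (W : AddSubgroup V) (hW : ∀ h ∈ A, ∀ x ∈ W, pt h x ∈ W) {x : V} (hx : x ∈ W)
    (hx0 : x ≠ 0) : W = ⊤ := by
  classical
  by_contra hne
  let f : Option A → W := fun o => o.elim 0 fun h => ⟨pt h x, hW h h.2 x hx⟩
  have hf : Function.Injective f := by
    rintro (_ | g) (_ | h) e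
    · rfl
    · refine absurd ?_ hx0
      have e' : pt (h : Equiv.Perm (Option V)) x = 0 := (congrArg Subtype.val e).symm
      rw [← Core.pt_zero (hA h.2)] at e'
      refine Option.some.inj ((h : Equiv.Perm (Option V)).injective ?_)
      rw [hG.apply_stab (hA h.2), hG.apply_stab (hA h.2), e']
    · refine absurd ?_ hx0
      have e' : pt (g : Equiv.Perm (Option V)) x = 0 := congrArg Subtype.val e
      rw [← Core.pt_zero (hA g.2)] at e'
      refine Option.some.inj ((g : Equiv.Perm (Option V)).injective ?_)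
      rw [hG.apply_stab (hA g.2), hG.apply_stab (hA g.2), e']
    · exact congrArg some (Subtype.ext (hG.eq_of_pt (hA g.2) (hA h.2) hx0 (congrArg Subtype.val e)))
  have h1 : Nat.card A + 1 ≤ Nat.card W := by
    rw [← Finite.card_option]
    exact Nat.card_le_card_of_injective f hf
  have h2 := W.index_mul_card
  have h3 : 2 ≤ W.index := by
    have : W.index ≠ 1 := fun e => hne (AddSubgroup.index_eq_one.1 e)
    have : W.index ≠ 0 := AddSubgroup.index_ne_zero_of_finite
    omega
  have h4 := Nat.mul_le_mul_right (Nat.card W) h3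
  omega

/-- an abelian subgroup of the stabilizer with at most two orbits turns `V` into a field -/
theorem exists_field_of_le [Nontrivial V] (hG : Core G) {A : Subgroup (Equiv.Perm (Option V))}
    (hA : A ≤ stab G) (hbig : Nat.card V - 1 ≤ 2 * Nat.card A)
    (hcomm : ∀ g ∈ A, ∀ h ∈ A, g * h = h * g) :
    ∃ (K : Type) (_ : Field K) (_ : Fintype K) (e : K ≃+ V),
      ∀ h ∈ A, ∃ u : Kˣ, ∀ x, pt h (e x) = e (u * x) := by
  classical
  let endA : A →* AddMonoid.End V := (endHom hG).comp (Subgroup.inclusion hA)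
  set S := Subring.closure (Set.range endA)
  letI : CommRing S := Subring.closureCommRingOfComm (by
    rintro _ ⟨g, rfl⟩ _ ⟨h, rfl⟩
    rw [← map_mul, ← map_mul]
    exact congrArg _ (Subtype.ext (hcomm g g.2 h h.2)))
  have hgen : ∀ h : A, endA h ∈ S := fun h => Subring.subset_closure ⟨h, rfl⟩
  obtain ⟨v₀, hv₀⟩ := exists_ne (0 : V)
  let ev : S →+ V := AddMonoidHom.mk' (fun r => (r : AddMonoid.End V) v₀) fun _ _ => rfl
  have hsurj : Function.Surjective ev := by
    rw [← AddMonoidHom.range_eq_top]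
    refine invariant_eq_top_of_le hG hA hbig _ ?_ ⟨1, rfl⟩ hv₀
    rintro h hh _ ⟨r, rfl⟩
    exact ⟨⟨_, hgen ⟨h, hh⟩⟩ * r, rfl⟩
  have hinj : Function.Injective ev := by
    refine (injective_iff_map_eq_zero ev).2 fun r hr => Subtype.ext (AddMonoidHom.ext fun x => ?_)
    obtain ⟨s, rfl⟩ := hsurj x
    show ((r : AddMonoid.End V) * s) v₀ = 0
    rw [← Subring.coe_mul, mul_comm, Subring.coe_mul]
    show (s : AddMonoid.End V) (ev r) = 0
    rw [hr, map_zero]
  haveI : Finite S := Finite.of_injective ev hinj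
  haveI : NoZeroDivisors S := ⟨fun {r s} hrs => or_iff_not_imp_left.2 fun hr => by
    by_contra hs
    have hker : (r : AddMonoid.End V).ker = ⊤ := by
      refine invariant_eq_top_of_le hG hA hbig _ ?_ (x := ev s) ?_ fun e => hs (hinj (e.trans (map_zero ev).symm))
      · intro h hh x hx
        obtain ⟨t, rfl⟩ := hsurj x
        have e0 : r * t = 0 := hinj (by rw [map_zero]; exact hx)
        show ((r : AddMonoid.End V) * (endA ⟨h, hh⟩ * t)) v₀ = 0
        have e1 : r * (⟨_, hgen ⟨h, hh⟩⟩ * t) = 0 := by rw [mul_left_comm, e0, mul_zero]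
        exact DFunLike.congr_fun (congrArg Subtype.val e1) v₀
      · show ((r : AddMonoid.End V) * s) v₀ = 0
        rw [← Subring.coe_mul, hrs]
        rfl
    exact hr (Subtype.ext (AddMonoidHom.ext fun x => (hker ▸ AddSubgroup.mem_top x :
      x ∈ (r : AddMonoid.End V).ker)))⟩
  haveI : Nontrivial S := ⟨0, 1, fun e => hv₀ (by
    simpa using (DFunLike.congr_fun (congrArg Subtype.val e) v₀).symm)⟩
  haveI : IsDomain S := NoZeroDivisors.to_isDomain _
  haveI : Fintype S := Fintype.ofFinite S
  letI : Field S := Fintype.fieldOfDomain S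
  obtain ⟨K, iK, iK', ⟨ε⟩⟩ := exists_small_copy S
  refine ⟨K, iK, iK', ε.toAddEquiv.trans (AddEquiv.ofBijective ev ⟨hinj, hsurj⟩), fun h hh => ?_⟩
  have hne : (⟨_, hgen ⟨h, hh⟩⟩ : S) ≠ 0 := fun e => by
    have h1 : pt h v₀ = 0 := DFunLike.congr_fun (congrArg Subtype.val e) v₀
    exact hv₀ (Option.some.inj (h.injective (by
      rw [hG.apply_stab (hA hh), h1, (hA hh).2.2])))
  refine ⟨Units.mk0 (ε.symm ⟨_, hgen ⟨h, hh⟩⟩) (by
    rw [ne_eq, RingEquiv.map_eq_zero_iff]; exact hne), fun x => ?_⟩
  show pt h (ev (ε x)) = ev (ε (_ * x))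
  rw [map_mul, Units.val_mk0, RingEquiv.apply_symm_apply]
  rfl

/-- an abelian stabilizer with at most two orbits turns `V` into a field -/
theorem exists_field [Nontrivial V] (hG : Core G)
    (hbig : Nat.card V - 1 ≤ 2 * Nat.card (stab G))
    (hcomm : ∀ g ∈ stab G, ∀ h ∈ stab G, g * h = h * g) :
    ∃ (K : Type) (_ : Field K) (_ : Fintype K) (e : K ≃+ V),
      ∀ h ∈ stab G, ∃ u : Kˣ, ∀ x, pt h (e x) = e (u * x) :=
  exists_field_of_le hG le_rfl hbig hcomm

end Cfsg.Agent.Perm.Zassenhaus
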