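import Mathlib
import Cfsg.Agent.Lib.Perm.Zassenhaus.Field

/-!
# Recognition of `PSL(2, q)` and `PGL(2, q)` among groups on a line
-/

set_option autoImplicit false

namespace Cfsg.Agent.Perm.Zassenhaus

section Transport

variable {V K : Type*} [AddCommGroup V] [AddCommGroup K]

/-- relabel the line -/
def relabel (e : K ≃+ V) : Equiv.Perm (Option V) ≃* Equiv.Perm (Option K) :=
  (Equiv.optionCongr e.toEquiv).symm.permCongrHom

theorem relabel_apply (e : K ≃+ V) (g : Equiv.Perm (Option V)) (z : Option K) :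
    relabel e g z = (g (z.map e)).map e.symm := by
  cases h : g (z.map e) <;> simp [relabel, Equiv.permCongrHom, h, Equiv.symm_apply_eq]

theorem relabel_tr (e : K ≃+ V) (a : K) : relabel e (tr (e a)) = tr a := by
  ext1 z; cases z <;> simp [relabel_apply, ← map_add]

variable {G : Subgroup (Equiv.Perm (Option V))} {e : K ≃+ V}

theorem mem_stab_relabel {g : Equiv.Perm (Option K)}
    (hg : g ∈ stab (G.map (relabel e).toMonoidHom)) : ∃ h ∈ stab G, relabel e h = g := by
  obtain ⟨⟨h, hh, rfl⟩, h1, h2⟩ := hg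
  refine ⟨h, ⟨hh, ?_, ?_⟩, rfl⟩
  · simpa [relabel_apply] using h1
  · simpa [relabel_apply, Option.map_eq_some_iff] using h2

theorem stab_relabel {h : Equiv.Perm (Option V)} (hh : h ∈ stab G) :
    relabel e h ∈ stab (G.map (relabel e).toMonoidHom) :=
  ⟨⟨h, hh.1, rfl⟩, by simp [relabel_apply, hh.2.1], by simp [relabel_apply, hh.2.2]⟩

theorem card_stab_relabel :
    Nat.card (stab (G.map (relabel e).toMonoidHom)) = Nat.card (stab G) := by
  refine (Nat.card_eq_of_bijective (fun h : stab G => (⟨_, stab_relabel h.2⟩ :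
    stab (G.map (relabel e).toMonoidHom))) ⟨fun a b h => ?_, fun g => ?_⟩).symm
  · exact Subtype.ext ((relabel e).injective (congrArg Subtype.val h))
  · obtain ⟨h, hh, he⟩ := mem_stab_relabel g.2
    exact ⟨⟨h, hh⟩, Subtype.ext he⟩

theorem Core.relabel (hG : Core G) : Core (G.map (relabel e).toMonoidHom) := by
  refine ⟨fun a => ⟨_, hG.tr_mem (e a), relabel_tr e a⟩, fun g hg h1 h2 => ?_,
    fun g hg h1 h2 x hx hfix => ?_⟩
  · obtain ⟨h, hh, rfl⟩ := mem_stab_relabel ⟨hg, h1, h2⟩
    obtain ⟨φ, hφ⟩ := hG.lin h hh.1 hh.2.1 hh.2.2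
    exact ⟨(e.trans φ).trans e.symm, fun x => by simp [relabel_apply, hφ]⟩
  · obtain ⟨h, hh, rfl⟩ := mem_stab_relabel ⟨hg, h1, h2⟩
    rw [hG.free h hh.1 hh.2.1 hh.2.2 (e x) (by simpa using hx) ?_, map_one]
    simpa [relabel_apply, Option.map_eq_some_iff, AddEquiv.symm_apply_eq] using hfix

theorem Swap.relabel {w : Equiv.Perm (Option V)} (hw : Swap G w) :
    Swap (G.map (relabel e).toMonoidHom) (relabel e w) :=
  ⟨⟨w, hw.mem, rfl⟩, by simp [relabel_apply, hw.none'], by rw [← map_mul, hw.sq, map_one]⟩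

end Transport

section Field

variable {K : Type*} [Field K] [DecidableEq K]

/-- multiplications as a homomorphism -/
def mulPHom (K : Type*) [Field K] [DecidableEq K] : Kˣ →* Equiv.Perm (Option K) where
  toFun := mulP
  map_one' := by ext1 z; cases z <;> simp
  map_mul' u v := by ext1 z; cases z <;> simp [mul_assoc]

theorem pt_mulP (u : Kˣ) (x : K) : pt (mulP u) x = u * x := rfl

variable [Fintype K] {G : Subgroup (Equiv.Perm (Option K))} {w : Equiv.Perm (Option K)}

/-- the multipliers of `G` -/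
def mults (G : Subgroup (Equiv.Perm (Option K))) : Subgroup Kˣ := G.comap (mulPHom K)

theorem mulP_mem_stab {u : Kˣ} (hu : u ∈ mults G) : mulP u ∈ stab G :=
  ⟨hu, rfl, by simp⟩

theorem card_mults (hscal : ∀ h ∈ stab G, ∃ u : Kˣ, h = mulP u) :
    Nat.card (mults G) = Nat.card (stab G) := by
  refine Nat.card_eq_of_bijective (fun u : mults G => (⟨_, mulP_mem_stab u.2⟩ : stab G))
    ⟨fun a b h => ?_, fun g => ?_⟩
  · have := congrArg (fun g : stab G => pt (g : Equiv.Perm (Option K)) 1) h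
    simp only [pt_mulP, mul_one] at this
    exact Subtype.ext (Units.ext this)
  · obtain ⟨u, hu⟩ := hscal g g.2
    exact ⟨⟨u, (hu ▸ g.2.1 : mulP u ∈ G)⟩, Subtype.ext hu.symm⟩

theorem pt_swap_mul (hw : Swap G w) (hinv : ∀ h ∈ stab G, w * h * w = h⁻¹) {u : Kˣ}
    (hu : u ∈ mults G) {x : K} (hx : x ≠ 0) : pt w (u * x) = ((u⁻¹ : Kˣ) : K) * pt w x := by
  have e := hinv _ (mulP_mem_stab hu)
  have e' : w * mulP u = mulP u⁻¹ * w := by
    rw [← show mulPHom K u⁻¹ = mulP u⁻¹ from rfl, map_inv, show mulPHom K u = mulP u from rfl, ← e,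
      mul_assoc, hw.sq, mul_one]
  refine pt_eq ?_
  have := congrFun (congrArg DFunLike.coe e') (some x)
  simpa [Equiv.Perm.mul_apply, (hw.apply_some hx).1] using this

theorem negInv_mem (hw : Swap G w) {v : Kˣ} (hv : v ∈ mults G)
    (h : ∀ x : K, x ≠ 0 → (v : K) * pt w x = -1 / x) : negInv K ∈ G := by
  have e : negInv K = mulP v * w := by
    ext1 z
    cases z with
    | none => simp [negInv_none, Equiv.Perm.mul_apply, hw.none']
    | some x =>
      by_cases hx : x = 0
      · subst hx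
        simp [negInv_zero, Equiv.Perm.mul_apply, hw.zero]
      · rw [negInv_some hx, Equiv.Perm.mul_apply, (hw.apply_some hx).1, mulP_some, h x hx]
  exact e ▸ mul_mem (hv : mulP v ∈ G) hw.mem

theorem pgl_of_all (hG : Core G) (hw : Swap G w) (hinv : ∀ h ∈ stab G, w * h * w = h⁻¹)
    (hscal : ∀ h ∈ stab G, ∃ u : Kˣ, h = mulP u) (hall : ∀ u : Kˣ, u ∈ mults G) :
    Nonempty (G ≃* Matrix.ProjGenLinGroup (Fin 2) K) := by
  refine pgl_iso G hG.tr_mem hall ?_ fun g hg h h0 => hscal g ⟨hg, h, h0⟩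
  obtain ⟨-, hc⟩ := hw.apply_some (one_ne_zero (α := K))
  refine negInv_mem hw (v := Units.mk0 (-(pt w 1)⁻¹) (by simpa using hc)) (hall _) fun x hx => ?_
  have := pt_swap_mul hw hinv (hall (Units.mk0 x hx)) one_ne_zero
  rw [Units.val_mk0, mul_one] at this
  rw [this, Units.val_inv_eq_inv_val, Units.val_mk0, Units.val_mk0]
  field_simp

/-- the constant of the swap on the nonsquares -/
theorem eq_one_of_identity {a b e ε s : K} (ha : a * a = 1) (hb : b ≠ 0)
    (hs : s = -a - e / b) (hs0 : s ≠ 0) (hε : ε = 1 ∨ ε = e) (he : e ≠ 0)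
    (h : -a + -ε / s = -e / b + e / (b * b) * (-ε / s)) : e = 1 := by
  field_simp at h
  have h' : b ^ 2 * ε - e * ε = b ^ 2 - e ^ 2 := by
    have hs' : s * b = -(a * b) - e := by rw [hs]; field_simp
    linear_combination -h - (a * b - e) * hs' + b ^ 2 * ha
  rcases hε with rfl | rfl
  · have h3 : e * (e - 1) = 0 := by linear_combination h'
    exact sub_eq_zero.1 ((mul_eq_zero.1 h3).resolve_left he)
  · have h3 : b ^ 2 * (ε - 1) = 0 := by linear_combination h'
    exact sub_eq_zero.1 ((mul_eq_zero.1 h3).resolve_left (pow_ne_zero _ hb))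

/-- a swap commuting with negation and inverting a subgroup of index two is `x ↦ c / x` -/
theorem const_of_neg (hG : Core G) (hw : Swap G w)
    (hneg : ∀ x : K, x ≠ 0 → pt w (-x) = -pt w x)
    (hscal : ∀ h ∈ stab G, ∃ u : Kˣ, h = mulP u) {U : Subgroup Kˣ} (hidx : U.index = 2)
    (hU : ∀ u ∈ U, ∀ x : K, x ≠ 0 → pt w (u * x) = ((u⁻¹ : Kˣ) : K) * pt w x)
    (hcM : Units.mk0 (-pt w 1) (neg_ne_zero.2 (hw.apply_some (one_ne_zero (α := K))).2) ∈
      mults G) :
    ∀ x : K, x ≠ 0 → pt w x = pt w 1 / x := by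
  classical
  obtain ⟨-, hc⟩ := hw.apply_some (one_ne_zero (α := K))
  set c := pt w 1 with hc_def
  have hon : ∀ x : K, ∀ hx : x ≠ 0, Units.mk0 x hx ∈ U → pt w x = c / x := by
    intro x hx hxU
    have := hU _ hxU 1 one_ne_zero
    rw [Units.val_mk0, mul_one] at this
    rw [this, Units.val_inv_eq_inv_val, Units.val_mk0, inv_mul_eq_div]
  have hmul : ∀ a b : Kˣ, a * b ∈ U ↔ (a ∈ U ↔ b ∈ U) := fun a b =>
    Subgroup.mul_mem_iff_of_index_two hidx
  -- a point outside, minus one if possible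
  obtain ⟨b₀, hb₀, hb₀'⟩ : ∃ b : Kˣ, b ∉ U ∧ ((-1 : Kˣ) ∈ U ∨ b = -1) := by
    by_cases hm1 : (-1 : Kˣ) ∈ U
    · by_contra! hall
      have h1 := Subgroup.index_eq_one.2 (eq_top_iff.2 fun u _ =>
        by_contra fun hu => (hall u hu).1 hm1)
      omega
    · exact ⟨-1, hm1, Or.inr rfl⟩
  set b : K := (b₀ : K) with hb_def
  have hb : b ≠ 0 := b₀.ne_zero
  obtain ⟨-, hWb⟩ := hw.apply_some hb
  set e : K := b * pt w b / c with he_def
  have he : e ≠ 0 := div_ne_zero (mul_ne_zero hb hWb) hc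
  have hout : ∀ x : K, ∀ hx : x ≠ 0, Units.mk0 x hx ∉ U → pt w x = e * c / x := by
    intro x hx hxU
    have hu : Units.mk0 x hx * b₀⁻¹ ∈ U :=
      (hmul _ _).2 (iff_of_false hxU (mt inv_mem_iff.1 hb₀))
    have h1 := hU _ hu b hb
    simp only [Units.val_mul, Units.val_mk0, mul_inv_rev, inv_inv, Units.val_inv_eq_inv_val] at h1
    rw [inv_mul_cancel_right₀ hb] at h1
    rw [h1, he_def]
    field_simp
    simp [b]
  suffices he1 : e = 1 by
    intro x hx
    by_cases hxU : Units.mk0 x hx ∈ U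
    · exact hon x hx hxU
    · rw [hout x hx hxU, he1, one_mul]
  rcases hb₀' with hm1 | rfl
  swap
  · rw [he_def, hb_def, Units.val_neg, Units.val_one, hneg 1 one_ne_zero, ← hc_def, neg_one_mul,
      neg_neg, div_self hc]
  -- renormalize the swap
  set v : Kˣ := (Units.mk0 (-c) (neg_ne_zero.2 hc))⁻¹ with hv_def
  have hv : v ∈ mults G := inv_mem hcM
  have hvval : (v : K) = -c⁻¹ := by
    rw [hv_def, Units.val_inv_eq_inv_val, Units.val_mk0, inv_neg]
  set w' := mulP v * w with hw'_def
  have hW' : ∀ x : K, x ≠ 0 → pt w' x = (v : K) * pt w x := fun x hx => pt_eq (by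
    rw [hw'_def, Equiv.Perm.mul_apply, (hw.apply_some hx).1, mulP_some])
  have hneg' : ∀ x : K, x ≠ 0 → pt w' (-x) = -pt w' x := fun x hx => by
    rw [hW' _ (neg_ne_zero.2 hx), hW' x hx, hneg x hx, mul_neg]
  have h1' : w' (some 1) = some (-1) := by
    rw [hw'_def, Equiv.Perm.mul_apply, (hw.apply_some one_ne_zero).1, mulP_some, hvval, ← hc_def,
      neg_mul, inv_mul_cancel₀ hc]
  have h2' : w' (some (-1)) = some 1 := by
    rw [hw'_def, Equiv.Perm.mul_apply, (hw.apply_some (neg_ne_zero.2 one_ne_zero)).1, mulP_some,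
      hneg 1 one_ne_zero, hvval, ← hc_def, neg_mul_neg, inv_mul_cancel₀ hc]
  have hw' : Swap G w' := by
    refine ⟨mul_mem (hv : mulP v ∈ G) hw.mem, ?_, ?_⟩
    · simp [hw'_def, Equiv.Perm.mul_apply, hw.none']
    · have hn : w' none = some 0 := by simp [hw'_def, Equiv.Perm.mul_apply, hw.none']
      have hz : w' (some 0) = none := by simp [hw'_def, Equiv.Perm.mul_apply, hw.zero]
      have hm : w' ∈ G := mul_mem (hv : mulP v ∈ G) hw.mem
      refine hG.free _ (mul_mem hm hm) ?_ ?_ 1 one_ne_zero ?_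
      · rw [Equiv.Perm.mul_apply, hn, hz]
      · rw [Equiv.Perm.mul_apply, hz, hn]
      · rw [Equiv.Perm.mul_apply, h1', h2']
  have hval : ∀ x : K, x ≠ 0 → ∃ ε, (ε = 1 ∨ ε = e) ∧ pt w' x = -ε / x := by
    intro x hx
    rw [hW' x hx, hvval]
    by_cases hxU : Units.mk0 x hx ∈ U
    · refine ⟨1, Or.inl rfl, ?_⟩
      rw [hon x hx hxU]
      field_simp
    · refine ⟨e, Or.inr rfl, ?_⟩
      rw [hout x hx hxU]
      field_simp
  have hb' : pt w' b = -e / b := by
    rw [hW' b hb, hvval, he_def]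
    field_simp
  -- choose the square
  obtain ⟨a, ha, hsa, hWa⟩ : ∃ a : K, a * a = 1 ∧ -a - e / b ≠ 0 ∧ pt w' a = -a := by
    by_cases hs : -(1 : K) - e / b = 0
    · refine ⟨-1, by ring, fun hs' => ?_, by rw [pt_eq h2', neg_neg]⟩
      have h2 : (2 : K) = 0 := by linear_combination hs' - hs
      have hchar : ringChar K ≠ 2 := by
        intro h
        have h1 := FiniteField.even_card_of_char_two h
        have h3 := Subgroup.index_mul_card U
        rw [hidx, Nat.card_units, Nat.card_eq_fintype_card (α := K)] at h3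
        have : 0 < Fintype.card K := Fintype.card_pos
        omega
      exact Ring.two_ne_zero hchar h2
    · exact ⟨1, by ring, hs, pt_eq h1'⟩
  have ha0 : a ≠ 0 := left_ne_zero_of_mul_eq_one ha
  have hs : pt w' a + pt w' b ≠ 0 := by
    rw [hWa, hb', neg_div, ← sub_eq_add_neg]; exact hsa
  have hid := identity hG hw' hneg' ha0 hb hs
  obtain ⟨u, hu⟩ := hscal _ (phi_mem hG hw' hneg' ha0)
  obtain ⟨u', hu'⟩ := hscal _ (phi_mem hG hw' hneg' hb)
  have hua : (u : K) = 1 := by
    have := phi_apply hG hw' hneg' ha0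
    rw [hu, pt_mulP, hWa, neg_neg] at this
    exact mul_left_eq_self₀.1 this |>.resolve_right ha0
  have hub : (u' : K) = e / (b * b) := by
    have := phi_apply hG hw' hneg' hb
    rw [hu', pt_mulP, hb'] at this
    field_simp at this ⊢
    linear_combination this
  obtain ⟨ε, hε, hWs⟩ := hval _ hs
  rw [hu, hu', pt_mulP, pt_mulP, hua, hub, one_mul, hWs, hWa, hb'] at hid
  exact eq_one_of_identity (s := -a + -e / b) ha hb (by ring) (by rwa [hWa, hb'] at hs) hε he hid

theorem psl_of_half (hG : Core G) (hw : Swap G w) (hinv : ∀ h ∈ stab G, w * h * w = h⁻¹)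
    (hscal : ∀ h ∈ stab G, ∃ u : Kˣ, h = mulP u) (hidx : (mults G).index = 2) :
    Nonempty (G ≃* Matrix.ProjectiveSpecialLinearGroup (Fin 2) K) := by
  classical
  set U := mults G with hU
  have hodd : ringChar K ≠ 2 := by
    intro h2
    have h1 := FiniteField.even_card_of_char_two h2
    have h3 := Subgroup.index_mul_card U
    rw [hidx, Nat.card_units, Nat.card_eq_fintype_card (α := K)] at h3
    have : 0 < Fintype.card K := Fintype.card_pos
    omega
  have hsq : ∀ u : Kˣ, u * u ∈ U := fun u => Subgroup.mul_self_mem_of_index_two hidx u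
  have hmul : ∀ a b : Kˣ, a * b ∈ U ↔ (a ∈ U ↔ b ∈ U) := fun a b =>
    Subgroup.mul_mem_iff_of_index_two hidx
  have hconv : ∀ u ∈ U, ∃ v : Kˣ, u = v * v := by
    intro u hu
    have hpow : u ^ (Fintype.card K / 2) = 1 := by
      have h3 := Subgroup.index_mul_card U
      rw [hidx, Nat.card_units, Nat.card_eq_fintype_card (α := K)] at h3
      have hodd' := FiniteField.odd_card_of_char_ne_two hodd
      have : Nat.card U = Fintype.card K / 2 := by omega
      rw [← this]
      exact congrArg Subtype.val (pow_card_eq_one' (x := (⟨u, hu⟩ : U)))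
    obtain ⟨r, hr⟩ := (FiniteField.unit_isSquare_iff hodd u).2 hpow
    exact ⟨r, hr⟩
  obtain ⟨-, hc⟩ := hw.apply_some (one_ne_zero (α := K))
  set c := pt w 1 with hc_def
  have hon : ∀ x : K, ∀ hx : x ≠ 0, Units.mk0 x hx ∈ U → pt w x = c / x := by
    intro x hx hxU
    have := pt_swap_mul hw hinv hxU one_ne_zero
    rw [Units.val_mk0, mul_one] at this
    rw [this, Units.val_inv_eq_inv_val, Units.val_mk0, inv_mul_eq_div]
  suffices key : Units.mk0 (-c) (neg_ne_zero.2 hc) ∈ U ∧ ∀ x : K, x ≠ 0 → pt w x = c / x by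
    refine psl_iso G hG.tr_mem hsq ?_ fun g hg h h0 => ?_
    · refine negInv_mem hw (inv_mem key.1) fun x hx => ?_
      rw [key.2 x hx, Units.val_inv_eq_inv_val, Units.val_mk0]
      field_simp
    · obtain ⟨u, rfl⟩ := hscal g ⟨hg, h, h0⟩
      obtain ⟨v, rfl⟩ := hconv u hg
      exact ⟨v, rfl⟩
  by_cases hm1 : (-1 : Kˣ) ∈ U
  · -- minus one is a square
    have hneg : ∀ x : K, x ≠ 0 → pt w (-x) = -pt w x := fun x hx => by
      have := pt_swap_mul hw hinv hm1 hx
      rw [inv_neg, inv_one, Units.val_neg, Units.val_one, neg_one_mul, neg_one_mul] at this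
      exact this
    obtain ⟨u₁, hu₁⟩ := hscal _ (phi_mem hG hw hneg one_ne_zero)
    have hu₁c : (u₁ : K) = -c := by
      rw [hc_def, ← phi_apply hG hw hneg one_ne_zero, hu₁, pt_mulP, mul_one]
    have hcU : Units.mk0 (-c) (neg_ne_zero.2 hc) ∈ U := by
      have hm := (phi_mem hG hw hneg (one_ne_zero (α := K))).1
      rw [hu₁] at hm
      rwa [show Units.mk0 (-c) (neg_ne_zero.2 hc) = u₁ from Units.ext hu₁c.symm]
    refine ⟨hcU, ?_⟩
    exact const_of_neg hG hw hneg hscal hidx (fun u hu x hx => pt_swap_mul hw hinv hu hx) hcU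
  · -- minus one is not a square
    have hsel : ∀ x : K, ∀ hx : x ≠ 0,
        (Units.mk0 (-x) (neg_ne_zero.2 hx) ∈ U ↔ Units.mk0 x hx ∉ U) := by
      intro x hx
      rw [show Units.mk0 (-x) (neg_ne_zero.2 hx) = -1 * Units.mk0 x hx from
        Units.ext (by simp), hmul]
      simp [hm1]
    have hcn : Units.mk0 c hc ∉ U := by
      intro hcU
      -- then squares go to squares
      have hkeep : ∀ x : K, ∀ hx : x ≠ 0,
          (Units.mk0 (pt w x) (hw.apply_some hx).2 ∈ U ↔ Units.mk0 x hx ∈ U) := by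
        intro x hx
        constructor
        · intro hxU
          have := pt_swap_mul hw hinv hxU one_ne_zero
          rw [Units.val_mk0, mul_one, hw.pt_pt hx] at this
          have e : Units.mk0 x hx = (Units.mk0 (pt w x) (hw.apply_some hx).2)⁻¹ * Units.mk0 c hc :=
            Units.ext this
          rw [e]
          exact mul_mem (inv_mem hxU) hcU
        · intro hxU
          have := pt_swap_mul hw hinv hxU one_ne_zero
          rw [Units.val_mk0, mul_one] at this
          have e : Units.mk0 (pt w x) (hw.apply_some hx).2 = (Units.mk0 x hx)⁻¹ * Units.mk0 c hc :=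
            Units.ext this
          rw [e]
          exact mul_mem (inv_mem hxU) hcU
      set y := pt w (-1) with hy_def
      obtain ⟨ey, hy⟩ := hw.apply_some (neg_ne_zero.2 (one_ne_zero (α := K)))
      obtain ⟨ex, hx⟩ := hw.apply_some (neg_ne_zero.2 hy)
      have hh : tr (-c) * (w * tr 1 * w) * tr y * w ∈ stab G := by
        refine ⟨mul_mem (mul_mem (mul_mem (hG.tr_mem _)
          (mul_mem (mul_mem hw.mem (hG.tr_mem _)) hw.mem)) (hG.tr_mem _)) hw.mem, ?_, ?_⟩
        · simp only [Equiv.Perm.mul_apply, hw.none', tr_some, add_zero]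
          rw [← ey, hw.apply_apply, tr_some, add_neg_cancel, hw.zero, tr_none]
        · simp only [Equiv.Perm.mul_apply, hw.zero, tr_none, hw.none', tr_some, add_zero]
          rw [(hw.apply_some (one_ne_zero (α := K))).1, ← hc_def, tr_some, neg_add_cancel]
      obtain ⟨u, hu⟩ := hscal _ hh
      have huU : u ∈ U := by
        have hm := hh.1
        rwa [hu] at hm
      have hval : (u : K) * pt w (-y) = -c := by
        rw [← pt_mulP, ← hu]
        refine pt_eq ?_
        rw [Equiv.Perm.mul_apply, Equiv.Perm.mul_apply, Equiv.Perm.mul_apply, ← ex, hw.apply_apply,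
          tr_some, add_neg_cancel, Equiv.Perm.mul_apply, Equiv.Perm.mul_apply, hw.zero, tr_none,
          hw.none', tr_some, add_zero]
      have h1 : Units.mk0 (-c) (neg_ne_zero.2 hc) = u * Units.mk0 (pt w (-y)) hx :=
        Units.ext hval.symm
      have h2 : Units.mk0 (pt w (-y)) hx ∈ U := by
        rw [hkeep _ (neg_ne_zero.2 hy), hsel _ hy, hkeep _ (neg_ne_zero.2 one_ne_zero)]
        rwa [show Units.mk0 (-1 : K) (neg_ne_zero.2 one_ne_zero) = -1 from Units.ext (by simp)]
      exact (hsel c hc).1 (h1 ▸ mul_mem huU h2) hcU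
    have hcU : Units.mk0 (-c) (neg_ne_zero.2 hc) ∈ U := (hsel c hc).2 hcn
    have hWm : pt w (-c) * (-c) = pt w 1 * 1 := by
      rw [hon _ (neg_ne_zero.2 hc) hcU, ← hc_def, mul_one, div_mul_cancel₀ _ (neg_ne_zero.2 hc)]
    have hm : pt w (-1) = -c := by
      -- apply the multiplier `-c` to the point `-1`
      have h1 := pt_swap_mul hw hinv hcU (neg_ne_zero.2 (one_ne_zero (α := K)))
      rw [Units.val_mk0, Units.val_inv_eq_inv_val, Units.val_mk0, mul_neg_one, neg_neg,
        hc_def, hw.pt_pt one_ne_zero, ← hc_def] at h1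
      field_simp at h1
      linear_combination h1
    refine ⟨hcU, fun x hx => ?_⟩
    by_cases hxU : Units.mk0 x hx ∈ U
    · exact hon x hx hxU
    · have h1 := pt_swap_mul hw hinv ((hsel x hx).2 hxU) (neg_ne_zero.2 (one_ne_zero (α := K)))
      rw [Units.val_mk0, mul_neg_one, neg_neg, Units.val_inv_eq_inv_val, Units.val_mk0, hm] at h1
      rw [h1]
      field_simp

end Field

/-- A group on a line with inverted stabilizer of full or half size is a projective group. -/
theorem iso_of_inverted {V : Type*} [AddCommGroup V] [Finite V] [Nontrivial V]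
    {G : Subgroup (Equiv.Perm (Option V))} {w : Equiv.Perm (Option V)} (hG : Core G)
    (hw : Swap G w) (hinv : ∀ h ∈ stab G, w * h * w = h⁻¹)
    (hcard : Nat.card V - 1 = Nat.card (stab G) ∨ Nat.card V - 1 = 2 * Nat.card (stab G)) :
    ∃ (K : Type) (_ : Field K) (_ : Fintype K), Fintype.card K = Nat.card V ∧
      (Nat.card V - 1 = Nat.card (stab G) →
        Nonempty (G ≃* Matrix.ProjGenLinGroup (Fin 2) K)) ∧
      (Nat.card V - 1 = 2 * Nat.card (stab G) →
        ringChar K ≠ 2 ∧ Nonempty (G ≃* Matrix.ProjectiveSpecialLinearGroup (Fin 2) K)) := by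
  classical
  obtain ⟨K, iK, iK', e, he⟩ := exists_field hG (by omega)
    fun g hg h hh => comm_of_inverted hw hinv hg hh
  have hK : Fintype.card K = Nat.card V := by
    rw [← Nat.card_eq_fintype_card, Nat.card_congr e.toEquiv]
  set G' := G.map (relabel e).toMonoidHom with hG'
  have hGG : G ≃* G' := G.equivMapOfInjective _ (relabel e).injective
  have hscal : ∀ g ∈ stab G', ∃ u : Kˣ, g = mulP u := by
    intro g hg
    obtain ⟨h, hh, rfl⟩ := mem_stab_relabel hg
    obtain ⟨u, hu⟩ := he h hh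
    refine ⟨u, ?_⟩
    ext1 z
    cases z with
    | none => simp [relabel_apply, hh.2.1]
    | some x => simp [relabel_apply, hG.apply_stab hh, hu]
  have hinv' : ∀ g ∈ stab G', relabel e w * g * relabel e w = g⁻¹ := by
    intro g hg
    obtain ⟨h, hh, rfl⟩ := mem_stab_relabel hg
    rw [← map_mul, ← map_mul, hinv h hh, map_inv]
  have hM : Nat.card (mults G') = Nat.card (stab G) := by
    rw [card_mults hscal, hG', card_stab_relabel]
  have hU : Nat.card Kˣ = Nat.card V - 1 := by
    rw [Nat.card_units, Nat.card_eq_fintype_card, hK]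
  have hI := (mults G').index_mul_card
  have hpos : 0 < Nat.card (stab G) := Nat.card_pos
  rw [hM, hU] at hI
  refine ⟨K, iK, iK', hK, fun h1 => ?_, fun h2 => ?_⟩
  · have htop : mults G' = ⊤ := by
      refine Subgroup.index_eq_one.1 ?_
      exact Nat.eq_of_mul_eq_mul_right hpos (by rw [hI, h1, one_mul])
    exact ⟨hGG.trans (pgl_of_all (hG.relabel (e := e)) hw.relabel hinv' hscal
      fun u => htop ▸ Subgroup.mem_top u).some⟩
  · have hidx : (mults G').index = 2 := Nat.eq_of_mul_eq_mul_right hpos (by rw [hI, h2])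
    refine ⟨fun hc => ?_, ⟨hGG.trans (psl_of_half (hG.relabel (e := e)) hw.relabel hinv' hscal
      hidx).some⟩⟩
    have h1 := FiniteField.even_card_of_char_two hc
    omega

end Cfsg.Agent.Perm.Zassenhaus
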