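import Mathlib
import Cfsg.Agent.Lib.Perm.Zassenhaus.Recognize

/-!
# Actions with an abelian regular normal subgroup in a point stabilizer
-/

set_option autoImplicit false

namespace Cfsg.Agent.Perm.Zassenhaus

open MulAction

variable {G Ω : Type*} [Group G] [MulAction G Ω]

/-- a faithful action in which the stabilizer of `x` has an abelian regular normal subgroup `F`
and nothing but the identity fixes three points -/
structure Frame3 (x b : Ω) (F : Subgroup G) : Prop where
  ne : x ≠ b
  faithful : FaithfulSMul G Ω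
  le : F ≤ stabilizer G x
  normal : ∀ g : G, g • x = x → ∀ u ∈ F, g * u * g⁻¹ ∈ F
  comm : ∀ u ∈ F, ∀ v ∈ F, u * v = v * u
  reg : ∀ y z : Ω, y ≠ x → z ≠ x → ∃! u : F, (u : G) • y = z
  three : ∀ g : G, g • x = x → g • b = b → ∀ c : Ω, c ≠ x → c ≠ b → g • c = c → g = 1

variable {x b : Ω} {F : Subgroup G}

theorem Frame3.fix_x (h : Frame3 x b F) (u : F) : (u : G) • x = x := h.le u.2

theorem Frame3.smul_ne (h : Frame3 x b F) (u : F) {y : Ω} (hy : y ≠ x) : (u : G) • y ≠ x := by
  intro e
  exact hy ((MulAction.injective (u : G)) (e.trans (h.fix_x u).symm))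

theorem Frame3.eq_of_smul (h : Frame3 x b F) {u v : F} {y : Ω} (hy : y ≠ x)
    (e : (u : G) • y = (v : G) • y) : u = v :=
  (h.reg y _ hy (h.smul_ne v hy)).unique e rfl

/-- the abelian subgroup as an additive group -/
@[reducible] def Frame3.commGroup (h : Frame3 x b F) : CommGroup F :=
  { (inferInstance : Group F) with mul_comm := fun u v => Subtype.ext (h.comm u u.2 v v.2) }

/-- the points as the line over `Additive F` -/
noncomputable def Frame3.line (h : Frame3 x b F) : Option (Additive F) ≃ Ω :=
  Equiv.ofBijective (fun o => o.elim x fun u => ((Additive.toMul u : F) : G) • b) (by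
    constructor
    · rintro (_ | u) (_ | v) e
      · rfl
      · exact absurd e.symm (h.smul_ne _ h.ne.symm)
      · exact absurd e (h.smul_ne _ h.ne.symm)
      · exact congrArg some (Additive.toMul.injective (h.eq_of_smul h.ne.symm e))
    · intro y
      by_cases hy : y = x
      · exact ⟨none, hy.symm⟩
      · obtain ⟨u, hu, -⟩ := h.reg b y h.ne.symm hy
        exact ⟨some (Additive.ofMul u), hu⟩)

/-- the action as permutations of the line -/
noncomputable def Frame3.rep (h : Frame3 x b F) : G →* Equiv.Perm (Option (Additive F)) :=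
  h.line.symm.permCongrHom.toMonoidHom.comp (toPermHom G Ω)

theorem Frame3.rep_apply (h : Frame3 x b F) (g : G) (z : Option (Additive F)) :
    h.line (h.rep g z) = g • h.line z := by
  simp [Frame3.rep, Equiv.permCongrHom]

theorem Frame3.rep_injective (h : Frame3 x b F) : Function.Injective h.rep := by
  haveI := h.faithful
  exact h.line.symm.permCongrHom.injective.comp MulAction.toPerm_injective

theorem Frame3.line_none (h : Frame3 x b F) : h.line none = x := rfl

theorem Frame3.line_some (h : Frame3 x b F) (u : Additive F) :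
    h.line (some u) = ((Additive.toMul u : F) : G) • b := rfl

theorem Frame3.line_zero (h : Frame3 x b F) :
    letI := h.commGroup
    h.line (some (0 : Additive F)) = b := by
  simp [Frame3.line_some]

theorem Frame3.rep_mem_stab_iff (h : Frame3 x b F) (g : G) :
    letI := h.commGroup
    h.rep g ∈ stab h.rep.range ↔ g • x = x ∧ g • b = b := by
  letI := h.commGroup
  constructor
  · rintro ⟨-, h1, h2⟩
    have e1 := h.rep_apply g none
    have e2 := h.rep_apply g (some 0)
    rw [h1, h.line_none] at e1
    rw [h2, h.line_zero] at e2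
    exact ⟨e1.symm, e2.symm⟩
  · rintro ⟨h1, h2⟩
    refine ⟨⟨g, rfl⟩, h.line.injective ?_, h.line.injective ?_⟩
    · rw [h.rep_apply, h.line_none, h1]
    · rw [h.rep_apply, h.line_zero, h2]

theorem Frame3.core (h : Frame3 x b F) :
    letI := h.commGroup
    Core h.rep.range := by
  letI := h.commGroup
  refine ⟨fun a => ⟨((Additive.toMul a : F) : G), ?_⟩, ?_, ?_⟩
  · refine Equiv.ext fun z => h.line.injective ?_
    rw [h.rep_apply]
    cases z with
    | none => rw [tr_none, h.line_none, h.fix_x]
    | some u => rw [tr_some, h.line_some, h.line_some, smul_smul, ← Subgroup.coe_mul]; rfl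
  · rintro _ ⟨g, rfl⟩ h1 h2
    obtain ⟨hx, hb⟩ := (h.rep_mem_stab_iff g).1 ⟨⟨g, rfl⟩, h1, h2⟩
    have hx' : g⁻¹ • x = x := by rw [inv_smul_eq_iff, hx]
    let φ : F ≃* F :=
      { toFun := fun u => ⟨g * u * g⁻¹, h.normal g hx u u.2⟩
        invFun := fun u => ⟨g⁻¹ * u * g, by simpa using h.normal g⁻¹ hx' u u.2⟩
        left_inv := fun u => Subtype.ext (by simp [mul_assoc])
        right_inv := fun u => Subtype.ext (by simp [mul_assoc])
        map_mul' := fun u v => Subtype.ext (by simp [mul_assoc]) }
    refine ⟨MulEquiv.toAdditive φ, fun u => h.line.injective ?_⟩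
    rw [h.rep_apply, h.line_some, h.line_some]
    show g • ((Additive.toMul u : F) : G) • b = (g * ((Additive.toMul u : F) : G) * g⁻¹) • b
    rw [mul_smul, mul_smul, inv_smul_eq_iff.2 hb.symm]
  · rintro _ ⟨g, rfl⟩ h1 h2 u hu hfix
    obtain ⟨hx, hb⟩ := (h.rep_mem_stab_iff g).1 ⟨⟨g, rfl⟩, h1, h2⟩
    rw [h.three g hx hb (h.line (some u)) (h.line.injective.ne (Option.some_ne_none u))
      (fun e => hu (Option.some.inj (h.line.injective (e.trans h.line_zero.symm)))) ?_, map_one]
    rw [← h.rep_apply, hfix]

theorem Frame3.card_line [Finite Ω] (h : Frame3 x b F) :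
    Nat.card Ω = Nat.card (Additive F) + 1 := by
  haveI : Finite (Option (Additive F)) := Finite.of_equiv Ω h.line.symm
  haveI : Finite (Additive F) := Finite.of_injective _ (Option.some_injective _)
  rw [← Nat.card_congr h.line, Finite.card_option]

theorem Frame3.finite [Finite Ω] (h : Frame3 x b F) : Finite (Additive F) := by
  haveI : Finite (Option (Additive F)) := Finite.of_equiv Ω h.line.symm
  exact Finite.of_injective _ (Option.some_injective _)

theorem Frame3.card_stab (h : Frame3 x b F) :
    letI := h.commGroup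
    Nat.card (stab h.rep.range) = Nat.card ↥(stabilizer G x ⊓ stabilizer G b) := by
  letI := h.commGroup
  refine (Nat.card_eq_of_bijective
    (fun g : ↥(stabilizer G x ⊓ stabilizer G b) => (⟨h.rep (g : G),
      (h.rep_mem_stab_iff g).2 ⟨g.2.1, g.2.2⟩⟩ : stab h.rep.range)) ⟨fun g k e => ?_, ?_⟩).symm
  · exact Subtype.ext (h.rep_injective (congrArg Subtype.val e))
  · rintro ⟨_, hg⟩
    obtain ⟨g, rfl⟩ := hg.1
    exact ⟨⟨g, (h.rep_mem_stab_iff g).1 hg⟩, rfl⟩

theorem Frame3.swap (h : Frame3 x b F) {s : G} (hsx : s • x = b) (hs : s * s = 1) :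
    letI := h.commGroup
    Swap h.rep.range (h.rep s) := by
  letI := h.commGroup
  refine ⟨⟨s, rfl⟩, h.line.injective ?_, by rw [← map_mul, hs, map_one]⟩
  rw [h.rep_apply, h.line_none, hsx, h.line_zero]

/-- negation commutes with a swap if the two-point stabilizer has an involution -/
theorem neg_of_involution {V : Type*} [AddCommGroup V] {P : Subgroup (Equiv.Perm (Option V))}
    (hG : Core P) {w : Equiv.Perm (Option V)} (hw : Swap P w) {i : Equiv.Perm (Option V)}
    (hi : i ∈ stab P) (hi1 : i ≠ 1) (hi2 : i * i = 1) :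
    (∀ v : V, pt i v = -v) ∧ w * i * w = i ∧ ∀ v : V, v ≠ 0 → pt w (-v) = -pt w v := by
  have hact : ∀ k ∈ stab P, k ≠ 1 → k * k = 1 → ∀ v, pt k v = -v := by
    intro k hk hk1 hk2 v
    have h2 : pt k (pt k v) = v := by
      rw [← hG.pt_mul hk hk, hk2]
      rfl
    refine eq_neg_of_add_eq_zero_right ?_
    by_contra hne
    refine hk1 (hG.free k hk.1 hk.2.1 hk.2.2 _ hne ?_)
    rw [hG.apply_stab hk, hG.pt_add hk, h2, add_comm]
  have hneg := hact i hi hi1 hi2
  refine ⟨hneg, ?_⟩
  have hconj : w * i * w = i := by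
    have hmem := hw.conj_mem hi
    have h1 : w * i * w ≠ 1 := fun e => hi1 (by
      calc i = w * (w * i * w) * w := by
            simp only [← mul_assoc, hw.sq, one_mul]; rw [mul_assoc, hw.sq, mul_one]
        _ = 1 := by rw [e, mul_one, hw.sq])
    have h2 : w * i * w * (w * i * w) = 1 := by
      calc w * i * w * (w * i * w) = w * i * (w * w) * i * w := by simp only [mul_assoc]
        _ = w * (i * i) * w := by rw [hw.sq, mul_one]; simp only [mul_assoc]
        _ = 1 := by rw [hi2, mul_one, hw.sq]
    ext1 z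
    cases z with
    | none => rw [hmem.2.1, hi.2.1]
    | some v => rw [hG.apply_stab hmem, hG.apply_stab hi, hact _ hmem h1 h2, hneg]
  refine ⟨hconj, fun v hv => ?_⟩
  have e : w * i = i * w := by
    calc w * i = w * i * (w * w) := by rw [hw.sq, mul_one]
      _ = _ := by rw [← mul_assoc, hconj]
  refine pt_eq ?_
  have e' := congrFun (congrArg DFunLike.coe e) (some v)
  rwa [Equiv.Perm.mul_apply, Equiv.Perm.mul_apply, (hw.apply_some hv).1, hG.apply_stab hi,
    hG.apply_stab hi, hneg, hneg] at e'

/-- a half-size stabilizer of even order is inverted -/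
theorem Frame3.inverted_even [Finite Ω] (h : Frame3 x b F) {s : G} (hsx : s • x = b)
    (hs : s * s = 1) (heven : 2 ∣ Nat.card ↥(stabilizer G x ⊓ stabilizer G b))
    (hcard : Nat.card Ω = 2 * Nat.card ↥(stabilizer G x ⊓ stabilizer G b) + 2) :
    ∀ g : G, g • x = x → g • b = b → s * g * s = g⁻¹ := by
  letI := h.commGroup
  haveI := h.finite
  intro g hgx hgb
  have hw := h.swap hsx hs
  rw [← h.card_stab] at heven hcard
  haveI : Fact (Nat.Prime 2) := ⟨Nat.prime_two⟩
  obtain ⟨i, hi⟩ := exists_prime_orderOf_dvd_card' 2 heven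
  have hi' : i * i = 1 := by rw [← pow_two, ← hi, pow_orderOf_eq_one]
  obtain ⟨-, -, hneg⟩ := neg_of_involution h.core hw i.2
    (fun e => by
      have : i = 1 := Subtype.ext e
      rw [this, orderOf_one] at hi
      omega) (congrArg Subtype.val hi')
  have hinv := all_inverted h.core hw hneg 2 (fun v _ => ?_) ?_ two_pos _
    ((h.rep_mem_stab_iff g).2 ⟨hgx, hgb⟩)
  · rw [← map_mul, ← map_mul, ← map_inv] at hinv
    exact h.rep_injective hinv
  · classical
    haveI := Fintype.ofFinite (Additive F)
    rw [Nat.card_eq_fintype_card, Fintype.card_subtype]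
    refine le_trans (Finset.card_le_card (t := {v, -v}) fun a ha => ?_) Finset.card_le_two
    simpa using ha
  · classical
    haveI := Fintype.ofFinite (Additive F)
    have := h.card_line
    rw [Nat.card_eq_fintype_card (α := {v : Additive F // v ≠ 0}), Fintype.card_subtype_compl,
      Fintype.card_subtype_eq, ← Nat.card_eq_fintype_card]
    omega

/-- a full-size stabilizer over a group of exponent two is inverted -/
theorem Frame3.inverted_char_two [Finite Ω] (h : Frame3 x b F) {s : G} (hsx : s • x = b)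
    (hs : s * s = 1) (h2 : ∀ u ∈ F, u * u = 1)
    (hcard : Nat.card Ω = Nat.card ↥(stabilizer G x ⊓ stabilizer G b) + 2) :
    ∀ g : G, g • x = x → g • b = b → s * g * s = g⁻¹ := by
  letI := h.commGroup
  haveI := h.finite
  intro g hgx hgb
  have hw := h.swap hsx hs
  rw [← h.card_stab] at hcard
  have hnegid : ∀ v : Additive F, -v = v := fun v => neg_eq_of_add_eq_zero_right (by
    apply Additive.toMul.injective
    exact Subtype.ext (h2 _ (Additive.toMul v).2))
  have hinv := all_inverted h.core hw (fun v _ => by rw [hnegid, hnegid]) 1 (fun v _ => ?_) ?_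
    one_pos _ ((h.rep_mem_stab_iff g).2 ⟨hgx, hgb⟩)
  · rw [← map_mul, ← map_mul, ← map_inv] at hinv
    exact h.rep_injective hinv
  · classical
    haveI := Fintype.ofFinite (Additive F)
    rw [Nat.card_eq_fintype_card, Fintype.card_subtype]
    refine le_trans (Finset.card_le_card (t := {v}) fun a ha => ?_) (Finset.card_singleton v).le
    simpa [hnegid] using ha
  · classical
    haveI := Fintype.ofFinite (Additive F)
    have := h.card_line
    rw [Nat.card_eq_fintype_card (α := {v : Additive F // v ≠ 0}), Fintype.card_subtype_compl,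
      Fintype.card_subtype_eq, ← Nat.card_eq_fintype_card]
    omega

/-- recognition from an inverting swap -/
theorem Frame3.iso_of_inverted [Finite Ω] (h : Frame3 x b F) {s : G} (hsx : s • x = b)
    (hs : s * s = 1) (hinv : ∀ g : G, g • x = x → g • b = b → s * g * s = g⁻¹)
    (hcard : Nat.card Ω = Nat.card ↥(stabilizer G x ⊓ stabilizer G b) + 2 ∨
      Nat.card Ω = 2 * Nat.card ↥(stabilizer G x ⊓ stabilizer G b) + 2) :
    ∃ (K : Type) (_ : Field K) (_ : Fintype K), Fintype.card K + 1 = Nat.card Ω ∧
      (Nat.card Ω = Nat.card ↥(stabilizer G x ⊓ stabilizer G b) + 2 →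
        Nonempty (G ≃* Matrix.ProjGenLinGroup (Fin 2) K)) ∧
      (Nat.card Ω = 2 * Nat.card ↥(stabilizer G x ⊓ stabilizer G b) + 2 →
        ringChar K ≠ 2 ∧ Nonempty (G ≃* Matrix.ProjectiveSpecialLinearGroup (Fin 2) K)) := by
  letI := h.commGroup
  haveI := h.finite
  simp only [← h.card_stab] at hcard ⊢
  have hl := h.card_line
  have hpos : 0 < Nat.card (stab h.rep.range) := Nat.card_pos
  haveI : Nontrivial (Additive F) := Finite.one_lt_card_iff_nontrivial.1 (by omega)
  have hinv' : ∀ k ∈ stab h.rep.range, h.rep s * k * h.rep s = k⁻¹ := by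
    intro k hk
    obtain ⟨g, rfl⟩ := hk.1
    obtain ⟨h1, h2⟩ := (h.rep_mem_stab_iff g).1 hk
    rw [← map_mul, ← map_mul, hinv g h1 h2, map_inv]
  obtain ⟨K, i1, i2, hK, hpgl, hpsl⟩ :=
    Zassenhaus.iso_of_inverted h.core (h.swap hsx hs) hinv' (by omega)
  let e : G ≃* h.rep.range := MonoidHom.ofInjective h.rep_injective
  refine ⟨K, i1, i2, by omega, fun h1 => ⟨e.trans (hpgl (by omega)).some⟩, fun h1 => ?_⟩
  obtain ⟨hc, hne⟩ := hpsl (by omega)
  exact ⟨hc, ⟨e.trans hne.some⟩⟩

end Cfsg.Agent.Perm.Zassenhaus
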