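import Mathlib
import Cfsg.Prelude.Def_LieExceptional
import Cfsg.Agent.Lib.Perm.Zassenhaus.Action
import Cfsg.Agent.Lib.Perm.Sharp
import Cfsg.Agent.Lib.Coprime.FixedPointFree
import Cfsg.Agent.S0739
import Cfsg.Agent.S0740
import Cfsg.Agent.S0741
import Cfsg.Agent.S0885

/-!
# Zassenhaus groups with an abelian regular subgroup in the point stabilizer
-/

set_option autoImplicit false

namespace Cfsg.Agent.Perm.Zassenhaus

open MulAction

variable {G Ω : Type*} [Group G] [MulAction G Ω]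

theorem frame_of_zass (hZ : Cfsg.IsZassenhausGroup G Ω) {x b : Ω} (hxb : x ≠ b) (F : Subgroup G)
    (hle : F ≤ stabilizer G x) (hn : (F.subgroupOf (stabilizer G x)).Normal)
    (hcomm : IsMulCommutative F)
    (hreg : ∀ y z : Ω, y ≠ x → z ≠ x → ∃! u : F, (u : G) • y = z) : Frame3 x b F where
  ne := hxb
  faithful := hZ.1
  le := hle
  normal g hg u hu := hn.conj_mem ⟨u, hle hu⟩ hu ⟨g, hg⟩
  comm u hu v hv := congrArg Subtype.val (hcomm.is_comm.comm (⟨u, hu⟩ : F) ⟨v, hv⟩)
  reg := hreg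
  three g hgx hgb c hcx hcb hgc := hZ.2.2.1 g x b c hxb (Ne.symm hcb) (Ne.symm hcx) hgx hgb hgc

theorem Frame3.card_F [Finite Ω] {x b : Ω} {F : Subgroup G} (h : Frame3 x b F) :
    Nat.card Ω = Nat.card F + 1 := by
  rw [h.card_line, Nat.card_congr (Additive.toMul (α := F))]

theorem Frame3.fix_only {x b : Ω} {F : Subgroup G} (h : Frame3 x b F) :
    ∀ u ∈ F, u ≠ 1 → ∀ c : Ω, u • c = c → c = x := by
  intro u hu hu1 c hc
  by_contra hcx
  exact hu1 (congrArg Subtype.val ((h.reg c c hcx hcx).unique (y₁ := ⟨u, hu⟩) (y₂ := 1) hc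
    (one_smul G c)))

/-- the two-point stabilizer acts freely on `F` -/
theorem Frame3.card_dvd [Finite G] [Finite Ω] {x b : Ω} {F : Subgroup G} (h : Frame3 x b F) :
    Nat.card ↥(stabilizer G x ⊓ stabilizer G b) ∣ Nat.card F - 1 := by
  set A := stabilizer G x ⊓ stabilizer G b
  have hAF : A ≤ Subgroup.normalizer (F : Set G) := fun g hg => by
    rw [Subgroup.mem_normalizer_iff]
    refine fun u => ⟨h.normal g hg.1 u, fun hu => ?_⟩
    have hx' : g⁻¹ • x = x := by rw [inv_smul_eq_iff]; exact hg.1.symm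
    simpa [mul_assoc] using h.normal g⁻¹ hx' _ hu
  have hfpf : ∀ a ∈ A, a ≠ 1 → F ⊓ Subgroup.centralizer {a} = ⊥ := by
    intro a ha ha1
    rw [Subgroup.eq_bot_iff_forall]
    rintro u ⟨hu, hua⟩
    by_contra hu1
    have hc : u * a = a * u := Subgroup.mem_centralizer_singleton_iff.1 hua
    have hub : u • b ≠ b := fun e => h.ne (h.fix_only u hu hu1 b e).symm
    refine ha1 (h.three a ha.1 ha.2 (u • b) (h.smul_ne ⟨u, hu⟩ h.ne.symm) hub ?_)
    rw [← mul_smul, ← hc, mul_smul, (ha.2 : a • b = b)]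
  have hm := Cfsg.Agent.Coprime.fpf_card_mod hAF hfpf
  exact (Nat.modEq_iff_dvd' Nat.card_pos).1 (Eq.symm hm)

theorem two_lt_stab [Finite G] (hZ : Cfsg.IsZassenhausGroup G Ω) {x b : Ω} (hxb : x ≠ b) :
    1 < Nat.card ↥(stabilizer G x ⊓ stabilizer G b) := by
  obtain ⟨g, hg1, a, c, hac, hga, hgc⟩ := hZ.2.2.2.1
  obtain ⟨k, hka, hkc⟩ := is_two_pretransitive_iff.1 hZ.2.1 hac hxb
  refine Finite.one_lt_card_iff_nontrivial.2 ⟨⟨⟨k * g * k⁻¹, ?_, ?_⟩, 1, fun e => hg1 ?_⟩⟩
  · show (k * g * k⁻¹) • x = x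
    rw [← hka, mul_smul, inv_smul_smul, mul_smul, hga]
  · show (k * g * k⁻¹) • b = b
    rw [← hkc, mul_smul, inv_smul_smul, mul_smul, hgc]
  · have e' : k * g * k⁻¹ = 1 := congrArg Subtype.val e
    rw [mul_inv_eq_one, mul_eq_left] at e'
    exact e'

/-- with a full two-point stabilizer the action is sharply 3-transitive -/
theorem sharp_three [Finite G] [Finite Ω] (hZ : Cfsg.IsZassenhausGroup G Ω) {x b : Ω}
    (hxb : x ≠ b)
    (hcard : Nat.card Ω = Nat.card ↥(stabilizer G x ⊓ stabilizer G b) + 2) :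
    IsMultiplyPretransitive G Ω 3 ∧ ∀ t : Fin 3 ↪ Ω, stabilizer G t = ⊥ := by
  classical
  haveI := Fintype.ofFinite Ω
  have hfree : ∀ g : G, ∀ c : Ω, c ≠ x → c ≠ b → g • x = x → g • b = b → g • c = c → g = 1 :=
    fun g c hcx hcb hgx hgb hgc =>
      hZ.2.2.1 g x b c hxb (Ne.symm hcb) (Ne.symm hcx) hgx hgb hgc
  -- the stabilizer of `x` and `b` is regular on the other points
  have hreg : ∀ c c' : Ω, c ≠ x → c ≠ b → c' ≠ x → c' ≠ b →
      ∃ g : G, g • x = x ∧ g • b = b ∧ g • c = c' := by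
    intro c c' hcx hcb hc'x hc'b
    let f : ↥(stabilizer G x ⊓ stabilizer G b) → {y : Ω // y ≠ x ∧ y ≠ b} := fun g =>
      ⟨(g : G) • c, fun e => hcx (MulAction.injective (g : G) (e.trans g.2.1.symm)),
        fun e => hcb (MulAction.injective (g : G) (e.trans g.2.2.symm))⟩
    have hf : Function.Injective f := by
      intro g k e
      have e' : (g : G) • c = (k : G) • c := congrArg Subtype.val e
      refine Subtype.ext (inv_mul_eq_one.1 (hfree ((k : G)⁻¹ * g) c hcx hcb ?_ ?_ ?_)).symm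
      · rw [mul_smul, (g.2.1 : (g : G) • x = x), inv_smul_eq_iff, (k.2.1 : (k : G) • x = x)]
      · rw [mul_smul, (g.2.2 : (g : G) • b = b), inv_smul_eq_iff, (k.2.2 : (k : G) • b = b)]
      · rw [mul_smul, e', inv_smul_smul]
    have hcards : Nat.card {y : Ω // y ≠ x ∧ y ≠ b} =
        Nat.card ↥(stabilizer G x ⊓ stabilizer G b) := by
      rw [Nat.card_eq_fintype_card, Fintype.card_subtype,
        show (Finset.univ.filter fun y => y ≠ x ∧ y ≠ b) = ({x, b} : Finset Ω)ᶜ by ext; simp,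
        Finset.card_compl, Finset.card_pair hxb, ← Nat.card_eq_fintype_card, hcard]
      omega
    obtain ⟨g, hg⟩ := ((Nat.bijective_iff_injective_and_card f).2 ⟨hf, hcards.symm⟩).2 ⟨c', hc'x, hc'b⟩
    exact ⟨g, g.2.1, g.2.2, congrArg Subtype.val hg⟩
  have hnorm : ∀ t : Fin 3 ↪ Ω, ∃ g : G, g • t 0 = x ∧ g • t 1 = b ∧ g • t 2 ≠ x ∧ g • t 2 ≠ b := by
    intro t
    obtain ⟨g, h0, h1⟩ := is_two_pretransitive_iff.1 hZ.2.1
      (t.injective.ne (show (0 : Fin 3) ≠ 1 by decide)) hxb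
    refine ⟨g, h0, h1, fun e => ?_, fun e => ?_⟩
    · exact t.injective.ne (show (2 : Fin 3) ≠ 0 by decide) (smul_left_cancel g (e.trans h0.symm))
    · exact t.injective.ne (show (2 : Fin 3) ≠ 1 by decide) (smul_left_cancel g (e.trans h1.symm))
  refine ⟨⟨fun t t' => ?_⟩, fun t => ?_⟩
  · obtain ⟨g, h0, h1, h2, h2'⟩ := hnorm t
    obtain ⟨g', h0', h1', k2, k2'⟩ := hnorm t'
    obtain ⟨k, hkx, hkb, hk⟩ := hreg _ _ h2 h2' k2 k2'
    refine ⟨g'⁻¹ * k * g, Function.Embedding.ext fun i => ?_⟩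
    rw [Function.Embedding.smul_apply, mul_smul, mul_smul, inv_smul_eq_iff]
    fin_cases i
    · exact (congrArg (k • ·) h0).trans (hkx.trans h0'.symm)
    · exact (congrArg (k • ·) h1).trans (hkb.trans h1'.symm)
    · exact hk
  · rw [Sharp.stabilizer_embedding_eq_bot_iff]
    intro g hg
    exact hZ.2.2.1 g (t 0) (t 1) (t 2) (t.injective.ne (by decide)) (t.injective.ne (by decide))
      (t.injective.ne (by decide)) (hg 0) (hg 1) (hg 2)

section Complement

variable [Finite G] [Fintype Ω]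

/-- a normal subgroup of prime power index would be a smaller Zassenhaus group -/
theorem no_complement (hZ : Cfsg.IsZassenhausGroup G Ω) {x b : Ω} {F : Subgroup G}
    (h : Frame3 x b F)
    (hcard : Fintype.card Ω = 2 * Nat.card ↥(stabilizer G x ⊓ stabilizer G b) + 2)
    (hodd : Odd (Nat.card ↥(stabilizer G x ⊓ stabilizer G b)))
    (q : ℕ) (hq : q.Prime) (hqd : q ∣ Nat.card ↥(stabilizer G x ⊓ stabilizer G b)) :
    ¬ ∃ N : Subgroup G, N.Normal ∧ N.index = q ^ (Nat.card G).factorization q := by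
  classical
  haveI := hZ.1
  rintro ⟨N, hN, hidx⟩
  set A := stabilizer G x ⊓ stabilizer G b with hA
  set d := Nat.card A with hd
  have hd1 : 1 < d := two_lt_stab hZ h.ne
  have hn : Nat.card F = 2 * d + 1 := by
    have := h.card_F
    rw [Nat.card_eq_fintype_card] at this
    omega
  -- `F` is in `N`
  have hFN : F ≤ N := by
    intro u hu
    rw [← QuotientGroup.eq_one_iff]
    have h1 : orderOf (u : G ⧸ N) ∣ Nat.card F :=
      (orderOf_map_dvd (QuotientGroup.mk' N) u).trans (Subgroup.orderOf_dvd_natCard F hu)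
    have h2 : orderOf (u : G ⧸ N) ∣ N.index := by
      rw [Subgroup.index_eq_card]; exact orderOf_dvd_natCard _
    have hc : Nat.Coprime (Nat.card F) N.index := by
      rw [hidx]
      refine Nat.Coprime.pow_right _ ((hq.coprime_iff_not_dvd.2 fun hqF => ?_).symm)
      obtain ⟨k, hk⟩ := hqd
      have h3 : q ∣ 2 * d := ⟨2 * k, by rw [hk]; ring⟩
      exact hq.not_dvd_one ((Nat.dvd_add_right h3).1 (hn ▸ hqF))
    exact orderOf_eq_one_iff.1 (Nat.dvd_one.1 (hc ▸ Nat.dvd_gcd h1 h2))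
  obtain ⟨⟨s, hs2, hsx, hsb⟩, -, -⟩ := S0740.result hZ h.ne
  -- `N` is doubly transitive
  have hNx : ∀ y z : Ω, y ≠ x → z ≠ x → ∃ u : N, (u : G) • x = x ∧ (u : G) • y = z := fun y z hy hz => by
    obtain ⟨u, hu, -⟩ := h.reg y z hy hz
    exact ⟨⟨u, hFN u.2⟩, h.fix_x u, hu⟩
  have hF' : ∀ u : F, s * (u : G) * s⁻¹ ∈ N := fun u => hN.conj_mem _ (hFN u.2) s
  have hmove : ∀ y : Ω, y ≠ b → ∀ z : Ω, z ≠ b → ∃ u : N, (u : G) • b = b ∧ (u : G) • y = z := by
    intro y hy z hz
    have hy' : s⁻¹ • y ≠ x := fun e => hy (by rw [← hsx, ← e, smul_inv_smul])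
    have hz' : s⁻¹ • z ≠ x := fun e => hz (by rw [← hsx, ← e, smul_inv_smul])
    obtain ⟨u, hu, -⟩ := h.reg _ _ hy' hz'
    refine ⟨⟨_, hF' u⟩, ?_, ?_⟩
    · show (s * (u : G) * s⁻¹) • b = b
      rw [mul_smul, mul_smul, inv_smul_eq_iff.2 hsx.symm, h.fix_x, hsx]
    · show (s * (u : G) * s⁻¹) • y = z
      rw [mul_smul, mul_smul, hu, smul_inv_smul]
  obtain ⟨c, hcx, hcb⟩ : ∃ c : Ω, c ≠ x ∧ c ≠ b := by
    obtain ⟨c, -, hc⟩ := Finset.exists_mem_notMem_of_card_lt_card
      (s := ({x, b} : Finset Ω)) (t := Finset.univ) (by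
        rw [Finset.card_pair h.ne, Finset.card_univ]; omega)
    simp only [Finset.mem_insert, Finset.mem_singleton, not_or] at hc
    exact ⟨c, hc⟩
  have htox : ∀ y : Ω, ∃ u : N, (u : G) • y = x := by
    intro y
    by_cases hy : y = b
    · subst hy
      obtain ⟨u, -, hu⟩ := hNx y c h.ne.symm hcx
      obtain ⟨v, -, hv⟩ := hmove c hcb x h.ne
      exact ⟨v * u, by rw [Subgroup.coe_mul, mul_smul, hu, hv]⟩
    · obtain ⟨v, -, hv⟩ := hmove y hy x h.ne
      exact ⟨v, hv⟩
  have h2N : IsMultiplyPretransitive N Ω 2 := by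
    rw [is_two_pretransitive_iff]
    intro y y' z z' hy hz
    obtain ⟨u, hu⟩ := htox y
    obtain ⟨v, hv⟩ := htox z
    have hy' : (u : G) • y' ≠ x := fun e => hy (smul_left_cancel (u : G) (hu.trans e.symm))
    have hz' : (v : G) • z' ≠ x := fun e => hz (smul_left_cancel (v : G) (hv.trans e.symm))
    obtain ⟨k, hk, hk'⟩ := hNx _ _ hy' hz'
    refine ⟨v⁻¹ * k * u, ?_, ?_⟩
    · show ((v : G)⁻¹ * k * u) • y = z
      rw [mul_smul, mul_smul, hu, hk, inv_smul_eq_iff, hv]
    · show ((v : G)⁻¹ * k * u) • y' = z'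
      rw [mul_smul, mul_smul, hk', inv_smul_smul]
  -- the two-point stabilizer in `N` is proper
  set A' := stabilizer N x ⊓ stabilizer N b with hA'
  have hA'card : Nat.card A' = Nat.card (A ⊓ N : Subgroup G) := by
    refine Nat.card_eq_of_bijective
      (fun g : A' => (⟨((g : N) : G), ⟨g.2.1, g.2.2⟩, (g : N).2⟩ : (A ⊓ N : Subgroup G)))
      ⟨fun g k e => Subtype.ext (Subtype.ext (congrArg (fun z : (A ⊓ N : Subgroup G) => (z : G)) e)), fun g => ?_⟩
    exact ⟨⟨⟨g, g.2.2⟩, g.2.1.1, g.2.1.2⟩, rfl⟩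
  have hfac : 1 ≤ (Nat.card G).factorization q :=
    hq.factorization_pos_of_dvd Nat.card_pos.ne' (hqd.trans A.card_subgroup_dvd_card)
  have hlt : Nat.card A' < d := by
    rw [hA'card]
    refine lt_of_le_of_ne (Subgroup.card_le_of_le inf_le_left) fun e => ?_
    have hAN : A ≤ N := inf_eq_left.1 (Subgroup.eq_of_le_of_card_ge inf_le_left e.ge)
    -- then `N` would contain a whole point stabilizer
    have htop : N = ⊤ := by
      rw [eq_top_iff]
      intro g _
      obtain ⟨u, hu⟩ := htox (g • x)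
      have hx : ((u : G) * g) • x = x := by rw [mul_smul, hu]
      set g' := (u : G) * g
      have hb' : g' • b ≠ x := fun e' => h.ne (smul_left_cancel g' (hx.trans e'.symm))
      obtain ⟨v, hv, hv'⟩ := hNx (g' • b) b hb' h.ne.symm
      have hA2 : (v : G) * g' ∈ A :=
        ⟨by show ((v : G) * g') • x = x; rw [mul_smul, hx, hv],
          by show ((v : G) * g') • b = b; rw [mul_smul, hv']⟩
      have := mul_mem (inv_mem u.2) (mul_mem (inv_mem v.2) (hAN hA2))
      simpa [g'] using this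
    rw [htop, Subgroup.index_top] at hidx
    exact absurd hidx.symm (ne_of_gt (Nat.one_lt_pow (by omega) hq.one_lt))
  -- no regular normal subgroup of `N`
  have hreg : ∀ R : Subgroup N, R.Normal → IsPretransitive R Ω → ∃ y : Ω, stabilizer R y ≠ ⊥ := by
    intro R hR hRtr
    by_contra! hfree
    have hRfix : ∀ r : N, r ∈ R → ∀ y : Ω, r • y = y → r = 1 := fun r hr y hy => by
      have hm : (⟨r, hr⟩ : R) ∈ stabilizer R y := hy
      rw [hfree y, Subgroup.mem_bot] at hm
      exact congrArg Subtype.val hm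
    have hRcard : Nat.card R = Fintype.card Ω := by
      rw [← Nat.card_eq_fintype_card]
      exact Nat.card_eq_of_bijective (fun r : R => r • x) ⟨fun r r' e => by
        have hm : r'⁻¹ * r ∈ stabilizer R x := by
          rw [mem_stabilizer_iff, mul_smul, inv_smul_eq_iff]; exact e
        rw [hfree x, Subgroup.mem_bot, inv_mul_eq_one] at hm
        exact hm.symm, fun y => MulAction.exists_smul_eq R x y⟩
    -- all its nontrivial elements are involutions
    haveI : Fact (Nat.Prime 2) := ⟨Nat.prime_two⟩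
    obtain ⟨t, ht⟩ := exists_prime_orderOf_dvd_card' (G := R) 2 (by rw [hRcard, hcard]; omega)
    have ht1 : (t : N) ≠ 1 := fun e => by
      rw [show t = 1 from Subtype.ext e, orderOf_one] at ht; omega
    have hinv : ∀ r : N, r ∈ R → r * r = 1 := by
      intro r hr
      by_cases hr1 : r = 1
      · rw [hr1, one_mul]
      have hty : (t : N) • x ≠ x := fun e => ht1 (hRfix _ t.2 x e)
      have hry : r • x ≠ x := fun e => hr1 (hRfix _ hr x e)
      obtain ⟨u, hux, huy⟩ := hNx _ _ hty hry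
      have e : u * (t : N) * u⁻¹ = r := by
        have hm : r⁻¹ * (u * (t : N) * u⁻¹) ∈ R := mul_mem (inv_mem hr) (hR.conj_mem _ t.2 u)
        refine (inv_mul_eq_one.1 (hRfix _ hm x ?_)).symm
        have hux' : u⁻¹ • x = x := by rw [inv_smul_eq_iff]; exact hux.symm
        rw [mul_smul, mul_smul, mul_smul, hux', inv_smul_eq_iff]
        exact huy
      rw [← e]
      have ht2 : (t : N) * t = 1 :=
        congrArg Subtype.val (by rw [← pow_two, ← ht, pow_orderOf_eq_one] : t * t = 1)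
      calc u * (t : N) * u⁻¹ * (u * t * u⁻¹) = u * (t * t) * u⁻¹ := by group
        _ = 1 := by rw [ht2, mul_one, mul_inv_cancel]
    have hRc : ∀ r ∈ R, ∀ r' ∈ R, r * r' = r' * r := by
      intro r hr r' hr'
      have h1 := hinv _ (mul_mem hr hr')
      calc r * r' = (r * r')⁻¹ := eq_inv_of_mul_eq_one_left h1
        _ = r'⁻¹ * r⁻¹ := mul_inv_rev r r'
        _ = r' * r := by
          rw [inv_eq_of_mul_eq_one_right (hinv r' hr'), inv_eq_of_mul_eq_one_right (hinv r hr)]
    -- it is its own centralizer, hence normal in `G`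
    have hCR : ∀ k : N, (∀ r ∈ R, r * k = k * r) → k ∈ R := by
      intro k hk
      obtain ⟨r, hr⟩ := MulAction.exists_smul_eq R x (k • x)
      have hr' : ((r : N)) • x = k • x := hr
      have h1 : (r : N)⁻¹ * k = 1 := by
        refine Subtype.ext (hZ.1.eq_of_smul_eq_smul fun y => ?_)
        obtain ⟨r', hr''⟩ := MulAction.exists_smul_eq R x y
        have hy : y = (r' : N) • x := hr''.symm
        have hcomm : (r : N)⁻¹ * k * r' = r' * ((r : N)⁻¹ * k) := by
          rw [mul_assoc, ← hk _ r'.2, ← mul_assoc, hRc _ (inv_mem r.2) _ r'.2, mul_assoc]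
        show ((r : N)⁻¹ * k) • y = (1 : G) • y
        rw [one_smul, hy, ← mul_smul, hcomm, mul_smul, mul_smul, ← hr', inv_smul_smul]
      rw [inv_mul_eq_one] at h1
      exact h1 ▸ r.2
    have hRn : (R.map N.subtype).Normal := by
      refine ⟨fun _ ⟨r, hr, e⟩ g => ?_⟩
      subst e
      -- the conjugate subgroup
      have hmem : ∀ r : N, g * (r : G) * g⁻¹ ∈ N := fun r => hN.conj_mem _ r.2 g
      let R' : Subgroup N := R.map (MulAut.conjNormal g).toMonoidHom
      have hR' : R'.Normal := hR.map _ (MulAut.conjNormal (H := N) g).surjective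
      by_cases hdisj : R ⊓ R' = ⊥
      · have hin : ∀ r' ∈ R', r' ∈ R := by
          intro r' hr'
          refine hCR r' fun r hr => ?_
          exact Subgroup.commute_of_normal_of_disjoint R R' hR hR' (disjoint_iff.2 hdisj) r r' hr hr'
        exact ⟨_, hin _ ⟨r, hr, rfl⟩, by simp [MulAut.conjNormal_apply]⟩
      · -- a nontrivial normal subgroup inside a regular one is the whole of it
        obtain ⟨t', ht', ht'1⟩ := (Subgroup.bot_or_exists_ne_one _).resolve_left hdisj
        have hall : R ≤ R ⊓ R' := by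
          intro r hr
          by_cases hr1 : r = 1
          · rw [hr1]; exact one_mem _
          have hty : t' • x ≠ x := fun e => ht'1 (hRfix _ ht'.1 x e)
          have hry : r • x ≠ x := fun e => hr1 (hRfix _ hr x e)
          obtain ⟨u, hux, huy⟩ := hNx _ _ hty hry
          have hnI : (R ⊓ R').Normal := inferInstance
          have e : u * t' * u⁻¹ = r := by
            have hm : r⁻¹ * (u * t' * u⁻¹) ∈ R := mul_mem (inv_mem hr) (hR.conj_mem _ ht'.1 u)
            refine (inv_mul_eq_one.1 (hRfix _ hm x ?_)).symm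
            have hux' : u⁻¹ • x = x := by rw [inv_smul_eq_iff]; exact hux.symm
            rw [mul_smul, mul_smul, mul_smul, hux', inv_smul_eq_iff]
            exact huy
          exact e ▸ hnI.conj_mem _ ht' u
        have heq : R = R' := Subgroup.eq_of_le_of_card_ge (hall.trans inf_le_right)
          (Subgroup.card_map_of_injective (MulAut.conjNormal (H := N) g).injective).le
        have hm : (MulAut.conjNormal (H := N) g) r ∈ R' := ⟨r, hr, rfl⟩
        rw [← heq] at hm
        exact ⟨_, hm, by simp [MulAut.conjNormal_apply]⟩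
    obtain ⟨y, hy⟩ := hZ.2.2.2.2 (R.map N.subtype) hRn ⟨fun y z => by
      obtain ⟨r, hr⟩ := MulAction.exists_smul_eq R y z
      exact ⟨⟨_, ⟨r, r.2, rfl⟩⟩, hr⟩⟩
    apply hy
    rw [Subgroup.eq_bot_iff_forall]
    rintro ⟨_, ⟨r, hr, rfl⟩⟩ hr'
    exact Subtype.ext (show (r : G) = 1 by rw [hRfix r hr y hr']; rfl)
  -- the contradiction
  rcases Nat.lt_or_ge 1 (Nat.card A') with h1 | h1
  · haveI : Nontrivial A' := Finite.one_lt_card_iff_nontrivial.1 h1
    obtain ⟨g, hg⟩ := exists_ne (1 : A')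
    have hZN : Cfsg.IsZassenhausGroup N Ω :=
      ⟨⟨fun {g k} e => Subtype.ext (hZ.1.eq_of_smul_eq_smul e)⟩, h2N,
        fun g a c e ha hc he h1 h2 h3 => Subtype.ext (hZ.2.2.1 g a c e ha hc he h1 h2 h3),
        ⟨(g : N), fun e => hg (Subtype.ext e), x, b, h.ne, g.2.1, g.2.2⟩, hreg⟩
    have hodd' : Odd (Nat.card A') := by
      rw [hA'card]
      exact hodd.of_dvd_nat (Subgroup.card_dvd_of_le inf_le_left)
    have hcardF : Nat.card (F.subgroupOf N) = Nat.card F :=
      Nat.card_congr (Subgroup.subgroupOfEquivOfLe hFN).toEquiv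
    rcases S0885.result hZN h.ne (2 * d + 1) (Nat.card A') hcard rfl hodd'
      (F.subgroupOf N) (fun u hu => h.le hu) (by rw [hcardF, hn, hcard])
      (fun u hu hu1 c hc => h.fix_only _ hu (fun e => hu1 (Subtype.ext e)) c hc) with h' | ⟨-, ⟨u, v, huv⟩, -⟩
    · omega
    · exact huv (Subtype.ext (Subtype.ext (h.comm _ u.2 _ v.2)))
  · -- then `N` is sharply doubly transitive
    have hsh : ∀ t : Fin 2 ↪ Ω, stabilizer N t = ⊥ := by
      intro t
      refine (Sharp.stabilizer_embedding_eq_bot_iff t).2 fun g hg => ?_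
      obtain ⟨k, hk0, hk1⟩ := is_two_pretransitive_iff.1 h2N
        (t.injective.ne (show (0 : Fin 2) ≠ 1 by decide)) h.ne
      have hm : k * g * k⁻¹ ∈ A' := by
        refine ⟨?_, ?_⟩
        · show (k * g * k⁻¹) • x = x
          rw [← hk0, mul_smul, inv_smul_smul, mul_smul, hg 0]
        · show (k * g * k⁻¹) • b = b
          rw [← hk1, mul_smul, inv_smul_smul, mul_smul, hg 1]
      have hbot : A' = ⊥ := Subgroup.card_eq_one.1 (le_antisymm h1 Nat.card_pos)
      rw [hbot, Subgroup.mem_bot, mul_inv_eq_one, mul_eq_left] at hm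
      exact hm
    haveI : Nontrivial Ω := ⟨⟨x, b, h.ne⟩⟩
    obtain ⟨R, hR, -, hRtr, hRfree, -, -⟩ := Sharp.exists_kernel h2N hsh
    obtain ⟨y, hy⟩ := hreg R hR hRtr
    exact hy (hRfree y)

/-- Zassenhaus groups of half type are `PSL(2, q)` -/
theorem psl_of_zass (hZ : Cfsg.IsZassenhausGroup G Ω) {x b : Ω} {F : Subgroup G}
    (h : Frame3 x b F)
    (hcard : Fintype.card Ω = 2 * Nat.card ↥(stabilizer G x ⊓ stabilizer G b) + 2) :
    ∃ (K : Type) (_ : Field K) (_ : Fintype K), ringChar K ≠ 2 ∧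
      Fintype.card K + 1 = Fintype.card Ω ∧
      Nonempty (G ≃* Matrix.ProjectiveSpecialLinearGroup (Fin 2) K) := by
  obtain ⟨⟨s, hs, hsx, hsb⟩, -, -⟩ := S0740.result hZ h.ne
  have hs2 : s * s = 1 := by rw [← pow_two, ← hs, pow_orderOf_eq_one]
  have hinv : ∀ g : G, g • x = x → g • b = b → s * g * s = g⁻¹ := by
    rcases Nat.even_or_odd (Nat.card ↥(stabilizer G x ⊓ stabilizer G b)) with he | ho
    · exact h.inverted_even hsx hs2 he.two_dvd (by rw [Nat.card_eq_fintype_card, hcard])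
    · intro g hgx hgb
      have := (S0739.result hZ h.ne ho (fun q hq hqd => no_complement hZ h hcard ho q hq hqd)).2.2
        s hsx hsb g ⟨hgx, hgb⟩
      rwa [inv_eq_of_mul_eq_one_right hs2] at this
  obtain ⟨K, i1, i2, hK, -, hpsl⟩ := h.iso_of_inverted hsx hs2 hinv
    (Or.inr (by rw [Nat.card_eq_fintype_card, hcard]))
  obtain ⟨hc, hne⟩ := hpsl (by rw [Nat.card_eq_fintype_card, hcard])
  exact ⟨K, i1, i2, hc, by rw [hK, Nat.card_eq_fintype_card], hne⟩

end Complement

end Cfsg.Agent.Perm.Zassenhaus
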