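import Mathlib
import Cfsg.Agent.Lib.Perm.Zassenhaus.Action
import Cfsg.Agent.Lib.Perm.Sharp

/-!
# Sharply 3-transitive groups in the form of a frame
-/

set_option autoImplicit false

namespace Cfsg.Agent.Perm.Zassenhaus

open MulAction

variable {G α : Type*} [Group G] [MulAction G α] [Finite α]

theorem exists_triple (h3 : IsMultiplyPretransitive G α 3) {x y z u v w : α} (h1 : x ≠ y)
    (h2 : x ≠ z) (h4 : y ≠ z) (h5 : u ≠ v) (h6 : u ≠ w) (h7 : v ≠ w) :
    ∃ g : G, g • x = u ∧ g • y = v ∧ g • z = w := by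
  have hi : ∀ p q r : α, p ≠ q → p ≠ r → q ≠ r → Function.Injective ![p, q, r] := by
    intro p q r hpq hpr hqr i j hij
    fin_cases i <;> fin_cases j <;> simp_all
  obtain ⟨g, hg⟩ := h3.exists_smul_eq ⟨_, hi x y z h1 h2 h4⟩ ⟨_, hi u v w h5 h6 h7⟩
  have := fun i => congrArg (fun f : Fin 3 ↪ α => f i) hg
  exact ⟨g, this 0, this 1, this 2⟩

theorem eq_one_of_three (hsharp : ∀ t : Fin 3 ↪ α, stabilizer G t = ⊥) {g : G} {x y z : α}
    (h1 : x ≠ y) (h2 : x ≠ z) (h4 : y ≠ z) (hx : g • x = x) (hy : g • y = y) (hz : g • z = z) :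
    g = 1 := by
  have hinj : Function.Injective ![x, y, z] := by
    intro i j hij
    fin_cases i <;> fin_cases j <;> simp_all
  refine (Sharp.stabilizer_embedding_eq_bot_iff ⟨![x, y, z], hinj⟩).1 (hsharp _) g fun i => ?_
  fin_cases i <;> assumption

/-- the sharply 2-transitive point stabilizer gives the frame -/
theorem exists_frame (hG : FaithfulSMul G α) (h3 : IsMultiplyPretransitive G α 3)
    (hsharp : ∀ t : Fin 3 ↪ α, stabilizer G t = ⊥) (hcard : 3 ≤ Nat.card α) :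
    ∃ (x b : α) (F : Subgroup G) (p : ℕ) (s : G), p.Prime ∧ Frame3 x b F ∧ IsPGroup p F ∧
      (∀ u ∈ F, u ^ p = 1) ∧ s • x = b ∧ s * s = 1 ∧
      Nat.card α = Nat.card ↥(stabilizer G x ⊓ stabilizer G b) + 2 := by
  classical
  haveI := Fintype.ofFinite α
  rw [Nat.card_eq_fintype_card] at hcard
  obtain ⟨x, b, c, -, -, -, hxb, hxc, hbc⟩ := Finset.two_lt_card_iff.1
    (show 2 < (Finset.univ : Finset α).card by rw [Finset.card_univ]; omega)
  let Y := SubMulAction.ofStabilizer G x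
  haveI : Nontrivial Y := ⟨⟨b, hxb.symm⟩, ⟨c, hxc.symm⟩, fun e => hbc (congrArg Subtype.val e)⟩
  have h2 : IsMultiplyPretransitive (stabilizer G x) Y 2 := by
    rw [is_two_pretransitive_iff]
    intro y y' z z' hy hz
    obtain ⟨g, hg, hgy, hgy'⟩ := exists_triple h3 (Ne.symm y.2) (Ne.symm y'.2)
      (fun e => hy (Subtype.ext e)) (Ne.symm z.2) (Ne.symm z'.2) (fun e => hz (Subtype.ext e))
    exact ⟨⟨g, hg⟩, Subtype.ext hgy, Subtype.ext hgy'⟩
  have hsh : ∀ t : Fin 2 ↪ Y, stabilizer (stabilizer G x) t = ⊥ := by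
    intro t
    refine (Sharp.stabilizer_embedding_eq_bot_iff t).2 fun g hg => Subtype.ext ?_
    exact eq_one_of_three hsharp (Ne.symm (t 0).2) (Ne.symm (t 1).2)
      (fun e => t.injective.ne (show (0 : Fin 2) ≠ 1 by decide) (Subtype.ext e)) g.2
      (congrArg Subtype.val (hg 0)) (congrArg Subtype.val (hg 1))
  obtain ⟨N, hNn, hNc, hNt, hNfree, -, p, hp, hNp, hNexp⟩ := Sharp.exists_kernel h2 hsh
  obtain ⟨s, hsx, hsb, hsc⟩ := exists_triple h3 hxb hxc hbc hxb.symm hbc hxc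
  have hF : Frame3 x b (N.map (stabilizer G x).subtype) := by
    refine ⟨hxb, hG, Subgroup.map_subtype_le N, ?_, ?_, ?_, ?_⟩
    · rintro g hg _ ⟨u, hu, rfl⟩
      exact ⟨_, hNn.conj_mem u hu ⟨g, hg⟩, rfl⟩
    · rintro _ ⟨u, hu, rfl⟩ _ ⟨v, hv, rfl⟩
      rw [← map_mul, ← map_mul,
        show u * v = v * u from congrArg Subtype.val (hNc.is_comm.comm (⟨u, hu⟩ : N) ⟨v, hv⟩)]
    · intro y z hy hz
      obtain ⟨u, hu⟩ := MulAction.exists_smul_eq N (⟨y, hy⟩ : Y) (⟨z, hz⟩ : Y)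
      refine ⟨⟨_, ⟨u, u.2, rfl⟩⟩, congrArg Subtype.val hu, ?_⟩
      rintro ⟨_, v, hv, rfl⟩ hvy
      have h1 : (⟨v, hv⟩ : N) • (⟨y, hy⟩ : Y) = u • (⟨y, hy⟩ : Y) :=
        Subtype.ext (hvy.trans (congrArg Subtype.val hu).symm)
      have h2' : u⁻¹ * ⟨v, hv⟩ ∈ stabilizer N (⟨y, hy⟩ : Y) := by
        rw [mem_stabilizer_iff, mul_smul, h1, inv_smul_smul]
      rw [hNfree, Subgroup.mem_bot, inv_mul_eq_one] at h2'
      exact Subtype.ext (congrArg (fun n : N => ((n : stabilizer G x) : G)) h2'.symm)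
    · intro g hgx hgb c' hc'x hc'b hgc
      exact eq_one_of_three hsharp hxb hc'x.symm hc'b.symm hgx hgb hgc
  refine ⟨x, b, _, p, s, hp, hF, hNp.map _, ?_, hsx, ?_, ?_⟩
  · rintro _ ⟨u, hu, rfl⟩
    rw [← map_pow, show u ^ p = 1 from congrArg Subtype.val (hNexp ⟨u, hu⟩), map_one]
  · exact eq_one_of_three hsharp hxb hxc hbc (by rw [mul_smul, hsx, hsb])
      (by rw [mul_smul, hsb, hsx]) (by rw [mul_smul, hsc, hsc])
  · let f : ↥(stabilizer G x ⊓ stabilizer G b) → {z : α // z ≠ x ∧ z ≠ b} := fun g =>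
      ⟨(g : G) • c, fun e => hxc (MulAction.injective (g : G) (g.2.1.trans e.symm)),
        fun e => hbc (MulAction.injective (g : G) (g.2.2.trans e.symm))⟩
    have hf : Function.Bijective f := by
      refine ⟨fun g k e => ?_, fun z => ?_⟩
      · have e' : (g : G) • c = (k : G) • c := congrArg Subtype.val e
        refine Subtype.ext (inv_mul_eq_one.1 (eq_one_of_three hsharp hxb hxc hbc ?_ ?_ ?_)).symm
        · rw [mul_smul, (g.2.1 : (g : G) • x = x), inv_smul_eq_iff, (k.2.1 : (k : G) • x = x)]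
        · rw [mul_smul, (g.2.2 : (g : G) • b = b), inv_smul_eq_iff, (k.2.2 : (k : G) • b = b)]
        · rw [mul_smul, e', inv_smul_smul]
      · obtain ⟨g, h1, h2', h3'⟩ := exists_triple h3 hxb hxc hbc hxb (Ne.symm z.2.1) (Ne.symm z.2.2)
        exact ⟨⟨g, h1, h2'⟩, Subtype.ext h3'⟩
    rw [Nat.card_eq_of_bijective f hf, Nat.card_eq_fintype_card, Nat.card_eq_fintype_card,
      Fintype.card_subtype, show (Finset.univ.filter fun z => z ≠ x ∧ z ≠ b) =
        ({x, b} : Finset α)ᶜ by ext; simp, Finset.card_compl, Finset.card_pair hxb]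
    omega

end Cfsg.Agent.Perm.Zassenhaus
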