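import Mathlib
import Cfsg.Agent.Lib.Perm.Zassenhaus.SharpThree
import Cfsg.Agent.Lib.Perm.Zassenhaus.Main
import Cfsg.Agent.Lib.Perm.NearFieldTwoIndex

/-!
# Sharply 3-transitive groups of even degree: a subgroup of index two in a two-point stabilizer
-/

set_option autoImplicit false

namespace Cfsg.Agent.Perm.Zassenhaus

open MulAction
open Fpf (Ord3)

variable {G Ω : Type*} [Group G] [MulAction G Ω]

/-- moving a frame -/
theorem Frame3.map_conj {x b : Ω} {F : Subgroup G} (h : Frame3 x b F) (k : G) :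
    Frame3 (k • x) (k • b) (F.map (MulAut.conj k).toMonoidHom) where
  ne e := h.ne (MulAction.injective k e)
  faithful := h.faithful
  le := by
    rintro _ ⟨u, hu, rfl⟩
    show (k * u * k⁻¹) • k • x = k • x
    rw [mul_smul, mul_smul, inv_smul_smul, h.fix_x ⟨u, hu⟩]
  normal g hg := by
    rintro _ ⟨u, hu, rfl⟩
    refine ⟨(k⁻¹ * g * k) * u * (k⁻¹ * g * k)⁻¹, h.normal _ ?_ u hu, ?_⟩
    · rw [mul_smul, mul_smul, hg, inv_smul_smul]
    · show k * _ * k⁻¹ = g * (k * u * k⁻¹) * g⁻¹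
      group
  comm := by
    rintro _ ⟨u, hu, rfl⟩ _ ⟨v, hv, rfl⟩
    rw [← map_mul, ← map_mul, h.comm u hu v hv]
  reg y z hy hz := by
    have hy' : k⁻¹ • y ≠ x := fun e => hy (by rw [← e, smul_inv_smul])
    have hz' : k⁻¹ • z ≠ x := fun e => hz (by rw [← e, smul_inv_smul])
    obtain ⟨u, hu, huniq⟩ := h.reg _ _ hy' hz'
    refine ⟨⟨_, u, u.2, rfl⟩, ?_, ?_⟩
    · show (k * (u : G) * k⁻¹) • y = z
      rw [mul_smul, mul_smul, hu, smul_inv_smul]
    · rintro ⟨_, v, hv, rfl⟩ (hvy : (k * v * k⁻¹) • y = z)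
      rw [mul_smul, mul_smul] at hvy
      have := huniq ⟨v, hv⟩ (show v • k⁻¹ • y = k⁻¹ • z by rw [← hvy, inv_smul_smul])
      subst this
      rfl
  three g hgx hgb c hcx hcb hgc := by
    have e := h.three (k⁻¹ * g * k) (by rw [mul_smul, mul_smul, hgx, inv_smul_smul])
      (by rw [mul_smul, mul_smul, hgb, inv_smul_smul]) (k⁻¹ • c)
      (fun e => hcx (by rw [← e, smul_inv_smul])) (fun e => hcb (by rw [← e, smul_inv_smul]))
      (by rw [mul_smul, smul_inv_smul, mul_smul, hgc])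
    have : g = k * (k⁻¹ * g * k) * k⁻¹ := by group
    rw [this, e, mul_one, mul_inv_cancel]

/-- a subgroup of index two invariant under an automorphism of order at most two -/
theorem exists_invariant_index_two {H : Type*} [Group H] (σ : H →* H)
    (hσ : Function.Involutive σ) (h2 : ∃ N : Subgroup H, N.index = 2) :
    ∃ N : Subgroup H, N.index = 2 ∧ ∀ n ∈ N, σ n ∈ N := by
  obtain ⟨N₀, hN₀⟩ := h2
  set N₁ := N₀.comap σ
  have hN₁ : N₁.index = 2 := by rw [Subgroup.index_comap_of_surjective _ hσ.surjective, hN₀]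
  by_cases heq : ∀ n, n ∈ N₀ → σ n ∈ N₀
  · exact ⟨N₀, hN₀, heq⟩
  obtain ⟨a, ha, ha'⟩ : ∃ a, a ∈ N₀ ∧ σ a ∉ N₀ := by simpa using heq
  let N : Subgroup H :=
    { carrier := {h | h ∈ N₀ ↔ σ h ∈ N₀}
      one_mem' := by simp
      mul_mem' := fun {x y} hx hy => by
        show x * y ∈ N₀ ↔ σ (x * y) ∈ N₀
        rw [map_mul, Subgroup.mul_mem_iff_of_index_two hN₀, Subgroup.mul_mem_iff_of_index_two hN₀]
        exact iff_congr hx hy
      inv_mem' := fun {x} hx => by
        show x⁻¹ ∈ N₀ ↔ σ x⁻¹ ∈ N₀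
        rw [map_inv, inv_mem_iff, inv_mem_iff]
        exact hx }
  have hmem : ∀ x, x ∈ N ↔ (x ∈ N₀ ↔ σ x ∈ N₀) := fun _ => Iff.rfl
  refine ⟨N, Subgroup.index_eq_two_iff.2 ⟨a, fun x => ?_⟩, fun n hn => ?_⟩
  · rw [hmem, hmem, map_mul, Subgroup.mul_mem_iff_of_index_two hN₀,
      Subgroup.mul_mem_iff_of_index_two hN₀]
    by_cases h0 : x ∈ N₀ <;> by_cases h1 : σ x ∈ N₀ <;> simp [ha, ha', h0, h1]
  · rw [hmem, hσ]
    exact (Iff.symm hn)

section Action

variable {H V : Type*} [Group H] [AddCommGroup V] [Finite V] [Nontrivial V]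
  (ρ : H →* AddMonoid.End V) (hreg : ∀ v w : V, v ≠ 0 → w ≠ 0 → ∃! h : H, ρ h v = w)

include hreg

omit [Finite V] in
/-- an involution acts as negation -/
theorem involution_neg {j : H} (hj : j ≠ 1) (hj2 : j * j = 1) (v : V) : ρ j v = -v := by
  refine eq_neg_of_add_eq_zero_right ?_
  by_contra hne
  refine hj ((hreg _ _ hne hne).unique ?_ ?_)
  · show ρ j (v + ρ j v) = v + ρ j v
    rw [map_add, show ρ j (ρ j v) = (ρ j * ρ j) v from rfl, ← map_mul, hj2, map_one,
      AddMonoid.End.coe_one, id_eq, add_comm]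
  · rw [map_one]; rfl

/-- without noncentral elements of order three there is a subgroup of index two -/
theorem exists_index_two_lin {p : ℕ} [Fact p.Prime] [Module (ZMod p) V]
    (h2 : 2 ∣ Nat.card H) (hc : ∀ g : H, Ord3 g → g ∈ Subgroup.center H) :
    ∃ N : Subgroup H, N.index = 2 := by
  let φ : H →* Module.End (ZMod p) V :=
    { toFun := fun h => AddMonoidHom.toZModLinearMap p (ρ h)
      map_one' := LinearMap.ext fun x => by
        show ρ 1 x = x
        rw [map_one]; rfl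
      map_mul' := fun g h => LinearMap.ext fun x => by
        show ρ (g * h) x = ρ g (ρ h x)
        rw [map_mul]; rfl }
  let ψ : H →* (V ≃ₗ[ZMod p] V) :=
    (LinearMap.GeneralLinearGroup.generalLinearEquiv (ZMod p) V).toMonoidHom.comp φ.toHomUnits
  have hψ : ∀ h v, ψ h v = ρ h v := fun h v => rfl
  obtain ⟨v₀, hv₀⟩ := exists_ne (0 : V)
  have hne : ∀ (h : H) {v : V}, v ≠ 0 → ρ h v ≠ 0 := fun h v hv e => hv ((ψ h).injective
    (by rw [hψ, e, map_zero]))
  have hinj : Function.Injective ψ := fun g h e => (hreg v₀ (ρ h v₀) hv₀ (hne h hv₀)).unique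
    (by rw [← hψ, e, hψ]) rfl
  let e : H ≃* ψ.range := MonoidHom.ofInjective hinj
  obtain ⟨N, hN⟩ := NearField.exists_index_two (H := ψ.range)
    (fun v w hv hw => by
      obtain ⟨h, hh, huniq⟩ := hreg v w hv hw
      refine ⟨⟨_, h, rfl⟩, hh, ?_⟩
      rintro ⟨_, h', rfl⟩ hh'
      exact Subtype.ext (congrArg ψ (huniq h' hh')))
    (by rwa [← Nat.card_congr e.toEquiv]) fun g hg => by
      rw [Subgroup.mem_center_iff]
      intro g'
      obtain ⟨w, rfl⟩ := e.surjective g
      obtain ⟨z, rfl⟩ := e.surjective g'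
      have hw : Ord3 w := ⟨e.injective (by rw [map_pow, hg.1, map_one]),
        fun h => hg.2 (by rw [h, map_one])⟩
      rw [← map_mul, ← map_mul]
      exact congrArg e (Subgroup.mem_center_iff.1 (hc w hw) z)
  exact ⟨N.comap e.toMonoidHom,
    by rw [Subgroup.index_comap_of_surjective (f := e.toMonoidHom) N e.surjective, hN]⟩

/-- without noncentral elements of order three there is a subgroup of index two -/
theorem exists_index_two_end {p : ℕ} [Fact p.Prime] (hexp : ∀ v : V, p • v = 0)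
    (h2 : 2 ∣ Nat.card H) (hc : ∀ g : H, Ord3 g → g ∈ Subgroup.center H) :
    ∃ N : Subgroup H, N.index = 2 :=
  @exists_index_two_lin H V _ _ _ _ ρ hreg p _ (AddCommGroup.zmodModule hexp) h2 hc

end Action

variable [Finite G] [Finite Ω]

/-- sharply 3-transitive of even degree -/
theorem index_two_of_sharp_three (hG : FaithfulSMul G Ω) (h3 : IsMultiplyPretransitive G Ω 3)
    (hsharp : ∀ t : Fin 3 ↪ Ω, stabilizer G t = ⊥) (heven : Even (Nat.card Ω))
    (hcard : 3 ≤ Nat.card Ω) {a b c : Ω} (hab : a ≠ b) (hac : a ≠ c) (hbc : b ≠ c) (s : G)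
    (hsa : s • a = b) (hsb : s • b = a) (hsc : s • c = c) :
    ∃ N : Subgroup G, N ≤ stabilizer G a ⊓ stabilizer G b ∧
      (N.subgroupOf (stabilizer G a ⊓ stabilizer G b)).Normal ∧
      N.relIndex (stabilizer G a ⊓ stabilizer G b) = 2 ∧ ∀ n ∈ N, s * n * s⁻¹ ∈ N := by
  classical
  obtain ⟨x₀, b₀, F₀, p, s₀, hp, hF₀, -, hexp₀, -, -, hst₀⟩ := exists_frame hG h3 hsharp hcard
  haveI := Fact.mk hp
  obtain ⟨c₀, hc₀⟩ : ∃ c₀, c₀ ≠ x₀ ∧ c₀ ≠ b₀ := by
    by_contra! hall
    haveI := Fintype.ofFinite Ω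
    have : Fintype.card Ω ≤ ({x₀, b₀} : Finset Ω).card :=
      Finset.card_le_card fun y _ => by
        by_cases h : y = x₀
        · simp [h]
        · simp [hall y h]
    have := this.trans Finset.card_le_two
    rw [Nat.card_eq_fintype_card] at hcard
    omega
  obtain ⟨k, hkx, hkb, -⟩ := exists_triple h3 hF₀.ne hc₀.1.symm hc₀.2.symm hab hac hbc
  set F := F₀.map (MulAut.conj k).toMonoidHom
  have hF : Frame3 a b F := hkx ▸ hkb ▸ hF₀.map_conj k
  have hexp : ∀ u ∈ F, u ^ p = 1 := by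
    rintro _ ⟨u, hu, rfl⟩
    rw [← map_pow, hexp₀ u hu, map_one]
  set H := stabilizer G a ⊓ stabilizer G b with hH
  have hHcard : Nat.card Ω = Nat.card H + 2 := by
    rw [hst₀, Nat.add_right_cancel_iff]
    refine Nat.card_eq_of_bijective (fun g => (⟨k * g * k⁻¹, ?_, ?_⟩ : H)) ⟨?_, ?_⟩
    · show (k * (g : G) * k⁻¹) • a = a
      rw [← hkx, mul_smul, inv_smul_smul, mul_smul, g.2.1]
    · show (k * (g : G) * k⁻¹) • b = b
      rw [← hkb, mul_smul, inv_smul_smul, mul_smul, g.2.2]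
    · intro g g' e
      exact Subtype.ext (mul_left_cancel (mul_right_cancel (congrArg Subtype.val e)))
    · rintro ⟨g, hga, hgb⟩
      refine ⟨⟨k⁻¹ * g * k, ?_, ?_⟩, Subtype.ext (by group)⟩
      · show (k⁻¹ * g * k) • x₀ = x₀
        rw [mul_smul, hkx, mul_smul, (hga : g • a = a), inv_smul_eq_iff, hkx]
      · show (k⁻¹ * g * k) • b₀ = b₀
        rw [mul_smul, hkb, mul_smul, (hgb : g • b = b), inv_smul_eq_iff, hkb]
  have hHa : ∀ h : H, (h : G) • a = a := fun h => h.2.1
  have hHb : ∀ h : H, (h : G) • b = b := fun h => h.2.2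
  have hfree : ∀ (h : H) (y : Ω), y ≠ a → y ≠ b → (h : G) • y = y → h = 1 := fun h y hya hyb hy =>
    Subtype.ext (eq_one_of_three hsharp hab hya.symm hyb.symm (hHa h) (hHb h) hy)
  have hinj : ∀ {h h' : H} {y : Ω}, y ≠ a → y ≠ b → (h : G) • y = (h' : G) • y → h = h' := by
    intro h h' y hya hyb e
    refine (inv_mul_eq_one.1 (hfree (h'⁻¹ * h) y hya hyb ?_)).symm
    rw [Subgroup.coe_mul, Subgroup.coe_inv, mul_smul, e, inv_smul_smul]
  have hne : ∀ (h : H) {y : Ω}, y ≠ a → y ≠ b → (h : G) • y ≠ a ∧ (h : G) • y ≠ b := fun h y hya hyb =>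
    ⟨fun e => hya (MulAction.injective (h : G) (e.trans (hHa h).symm)),
      fun e => hyb (MulAction.injective (h : G) (e.trans (hHb h).symm))⟩
  have hFab : ∀ u ∈ F, u • a = a := fun u hu => hF.le hu
  have hHF : ∀ (h : H), ∀ u ∈ F, (h : G) * u * (h : G)⁻¹ ∈ F := fun h => hF.normal _ (hHa h)
  have hact : ∀ (h : H) (u : G), ((h : G) * u * (h : G)⁻¹) • b = (h : G) • u • b := fun h u => by
    rw [mul_smul, mul_smul, inv_smul_eq_iff.2 (hHb h).symm]
  -- the linear group
  letI := hF.commGroup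
  haveI := hF.finite
  have hnsmul : ∀ u : Additive F, p • u = 0 := fun u => by
    apply Additive.toMul.injective
    exact Subtype.ext (by simpa using hexp _ (Additive.toMul u).2)
  let cj : H → AddMonoid.End (Additive F) := fun h =>
    MonoidHom.toAdditive (MonoidHom.mk' (fun u : F => (⟨(h : G) * u * (h : G)⁻¹, hHF h u u.2⟩ : F))
      fun u v => Subtype.ext (by simp [mul_assoc]))
  have hcj : ∀ h (u : Additive F), ((Additive.toMul (cj h u) : F) : G) =
      (h : G) * ((Additive.toMul u : F) : G) * (h : G)⁻¹ := fun h u => rfl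
  let ρ : H →* AddMonoid.End (Additive F) :=
    { toFun := cj
      map_one' := AddMonoidHom.ext fun u => Additive.toMul.injective (Subtype.ext (by
        refine (hcj 1 u).trans ?_
        rw [Subgroup.coe_one, one_mul, inv_one, mul_one]; rfl))
      map_mul' := fun h h' => AddMonoidHom.ext fun u => Additive.toMul.injective (Subtype.ext (by
        refine ((hcj (h * h') u).trans ?_).trans
          ((congrArg (fun z => (h : G) * z * (h : G)⁻¹) (hcj h' u)).symm.trans (hcj h (cj h' u)).symm)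
        rw [Subgroup.coe_mul]
        group)) }
  let pnt : Additive F → Ω := fun u => ((Additive.toMul u : F) : G) • b
  have hpnt : ∀ (h : H) (u : Additive F), pnt (ρ h u) = (h : G) • pnt u := fun h u =>
    hact h ((Additive.toMul u : F) : G)
  have hpinj : Function.Injective pnt := fun u v e =>
    Additive.toMul.injective (hF.eq_of_smul hab.symm e)
  have hpa : ∀ u, pnt u ≠ a := fun u => hF.smul_ne _ hab.symm
  have hp0 : pnt 0 = b := one_smul G b
  haveI : Nontrivial (Additive F) := by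
    obtain ⟨u, hu, -⟩ := hF.reg b c hab.symm hac.symm
    exact ⟨⟨Additive.ofMul u, 0, fun e => hbc
      (hp0.symm.trans ((congrArg pnt e).symm.trans hu))⟩⟩
  have hreg : ∀ v w : Additive F, v ≠ 0 → w ≠ 0 → ∃! h : H, ρ h v = w := by
    intro v w hv hw
    have hv' : pnt v ≠ b := fun e => hv (hpinj (e.trans hp0.symm))
    have hw' : pnt w ≠ b := fun e => hw (hpinj (e.trans hp0.symm))
    obtain ⟨g, hga, hgb, hgv⟩ := exists_triple h3 hab (hpa v).symm hv'.symm hab (hpa w).symm hw'.symm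
    refine ⟨⟨g, hga, hgb⟩, hpinj ((hpnt _ _).trans hgv), fun g' hg' => hinj (hpa v) hv' ?_⟩
    rw [← hpnt]
    exact (congrArg pnt hg').trans hgv.symm
  -- the involution
  haveI : Fact (Nat.Prime 2) := ⟨Nat.prime_two⟩
  have h2H : 2 ∣ Nat.card H := by
    have := heven.two_dvd
    rw [hHcard] at this
    omega
  obtain ⟨i, hi⟩ := exists_prime_orderOf_dvd_card' (G := H) 2 h2H
  have hi1 : i ≠ 1 := fun e => by simp [e] at hi
  have hi2 : i * i = 1 := by rw [← pow_two, ← hi, pow_orderOf_eq_one]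
  have hinvo : ∀ j : H, j ≠ 1 → j * j = 1 → ∀ u ∈ F, (j : G) * u * (j : G)⁻¹ = u⁻¹ := by
    intro j hj1 hj2 u hu
    have e := involution_neg ρ hreg hj1 hj2 (Additive.ofMul (⟨u, hu⟩ : F))
    exact congrArg (fun z : Additive F => ((Additive.toMul z : F) : G)) e
  have huniq : ∀ j : H, j ≠ 1 → j * j = 1 → j = i := by
    intro j hj1 hj2
    obtain ⟨u, hu, -⟩ := hF.reg b c hab.symm hac.symm
    refine hinj hac.symm hbc.symm ?_
    rw [← hu, ← hact, ← hact, hinvo j hj1 hj2 u u.2, hinvo i hi1 hi2 u u.2]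
  -- conjugation by the swap
  have hss : s * s = 1 := eq_one_of_three hsharp hab hac hbc
    (by rw [mul_smul, hsa, hsb]) (by rw [mul_smul, hsb, hsa]) (by rw [mul_smul, hsc, hsc])
  have hsinv : s⁻¹ = s := inv_eq_of_mul_eq_one_right hss
  have hconj : ∀ h : H, s * (h : G) * s⁻¹ ∈ H := fun h => by
    refine ⟨?_, ?_⟩
    · show (s * (h : G) * s⁻¹) • a = a
      rw [hsinv, mul_smul, hsa, mul_smul, hHb, hsb]
    · show (s * (h : G) * s⁻¹) • b = b
      rw [hsinv, mul_smul, hsb, mul_smul, hHa, hsa]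
  let σ : H →* H := MonoidHom.mk' (fun h => ⟨_, hconj h⟩) fun h h' => Subtype.ext (by
    show s * ((h : G) * h') * s⁻¹ = s * h * s⁻¹ * (s * h' * s⁻¹)
    group)
  have hσ : Function.Involutive σ := fun h => Subtype.ext (by
    show s * (s * (h : G) * s⁻¹) * s⁻¹ = h
    rw [hsinv, ← mul_assoc, ← mul_assoc, hss, one_mul, mul_assoc, hss, mul_one])
  have hσs : ∀ (h : H) (y : Ω), s • (h : G) • y = (σ h : G) • s • y := fun h y => by
    show _ = (s * (h : G) * s⁻¹) • s • y
    rw [mul_smul, mul_smul, inv_smul_smul]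
  have hσi : σ i = i := huniq _ (fun e => hi1 (hσ.injective (e.trans (map_one σ).symm)))
    (by rw [← map_mul, hi2, map_one])
  obtain ⟨⟨u, huF⟩, hu : u • b = c, -⟩ := hF.reg b c hab.symm hac.symm
  have hic : (i : G) • c = u⁻¹ • b := by rw [← hu, ← hact, hinvo i hi1 hi2 u huF]
  have hsic : s • (i : G) • c = (i : G) • c := by rw [hσs, hσi, hsc]
  have hic' : (i : G) • c ≠ c := fun e => hi1 (hfree i c hac.symm hbc.symm e)
  -- the fixed points of the swap
  have hfix : ∀ h : H, σ h = h → h = 1 ∨ h = i := by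
    intro h hh
    by_contra! hcon
    have h1 : (h : G) • c ≠ c := fun e => hcon.1 (hfree h c hac.symm hbc.symm e)
    have h2 : (h : G) • c ≠ (i : G) • c := fun e => hcon.2 (hinj hac.symm hbc.symm e)
    have hs1 := eq_one_of_three hsharp hic'.symm h1.symm h2.symm hsc hsic
      (by rw [hσs, hh, hsc])
    rw [hs1, one_smul] at hsa
    exact hab hsa
  -- the identity
  have hid : s * u * s = u * (i : G) * s * u := by
    refine (inv_mul_eq_one.1 (eq_one_of_three (x := a) (y := b) (z := (i : G) • c) hsharp hab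
      (hne i hac.symm hbc.symm).1.symm (hne i hac.symm hbc.symm).2.symm ?_ ?_ ?_)).symm
    · rw [mul_smul, inv_smul_eq_iff]
      simp only [mul_smul, hsa, hu, hsc, hFab u huF, hHb]
    · rw [mul_smul, inv_smul_eq_iff]
      simp only [mul_smul, hsb, hFab u huF, hsa, hu, hsc]
      rw [hic, smul_inv_smul]
    · rw [mul_smul, inv_smul_eq_iff]
      simp only [mul_smul, hsic]
      rw [hic, smul_inv_smul, hsb, hHa, hFab u huF]
  -- elements of order three
  have hstar : ∀ w : H, Ord3 w → u • (w : G) • c = ((w * w : H) : G) • (i : G) • c := by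
    intro w hw
    set v := u * ((w : G) * u * (w : G)⁻¹) *
      ((w : G) * ((w : G) * u * (w : G)⁻¹) * (w : G)⁻¹) with hv
    have hw1 := hHF w u huF
    have hw2 := hHF w _ hw1
    have hvF : v ∈ F := mul_mem (mul_mem huF hw1) hw2
    have hw3 : (w : G) * (w : G) * (w : G) = 1 := by
      rw [← pow_three', ← SubgroupClass.coe_pow, hw.1, Subgroup.coe_one]
    have hwv : (w : G) * v * (w : G)⁻¹ = v := by
      have e1 : (w : G) * ((w : G) * ((w : G) * u * (w : G)⁻¹) * (w : G)⁻¹) * (w : G)⁻¹ = u := by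
        have : (w : G)⁻¹ * (w : G)⁻¹ * (w : G)⁻¹ = 1 := by
          rw [← mul_inv_rev, ← mul_inv_rev, ← mul_assoc, hw3, inv_one]
        calc _ = ((w : G) * w * w) * u * ((w : G)⁻¹ * (w : G)⁻¹ * (w : G)⁻¹) := by group
          _ = u := by rw [hw3, this, one_mul, mul_one]
      calc (w : G) * v * (w : G)⁻¹ = ((w : G) * u * (w : G)⁻¹) *
            ((w : G) * ((w : G) * u * (w : G)⁻¹) * (w : G)⁻¹) *
            ((w : G) * ((w : G) * ((w : G) * u * (w : G)⁻¹) * (w : G)⁻¹) * (w : G)⁻¹) := by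
              rw [hv]; group
        _ = ((w : G) * u * (w : G)⁻¹) *
            ((w : G) * ((w : G) * u * (w : G)⁻¹) * (w : G)⁻¹) * u := by rw [e1]
        _ = v := by
            rw [hF.comm _ (mul_mem hw1 hw2) u huF, ← mul_assoc]
    have hv1 : v • b = b := by
      by_contra hvb
      refine hw.2 (hfree w (v • b) (hF.smul_ne ⟨v, hvF⟩ hab.symm) hvb ?_)
      rw [← hact, hwv]
    have hv1' : v = 1 := congrArg Subtype.val
      (hF.eq_of_smul (u := ⟨v, hvF⟩) (v := 1) hab.symm (hv1.trans (one_smul G b).symm))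
    have e3 : u * ((w : G) * u * (w : G)⁻¹) = ((w * w : H) : G) * u⁻¹ * ((w * w : H) : G)⁻¹ := by
      rw [hv, mul_eq_one_iff_eq_inv] at hv1'
      rw [hv1', Subgroup.coe_mul]
      simp only [mul_inv_rev, inv_inv, mul_assoc]
    rw [hic, ← hact (w * w), ← e3, mul_smul, hact, hu]
  have hinv3 : ∀ w : H, Ord3 w → σ w = w⁻¹ := by
    intro w hw
    have hw3 : w * w * w = 1 := by rw [← pow_three', hw.1]
    have hww : w * w = w⁻¹ := eq_inv_of_mul_eq_one_left hw3
    have hw' : Ord3 (σ w) := ⟨by rw [← map_pow, hw.1, map_one],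
      fun e => hw.2 (hσ.injective (e.trans (map_one σ).symm))⟩
    have hw'' : σ w * σ w = (σ w)⁻¹ := by rw [← map_mul, hww, map_inv]
    have hw''' : Ord3 (σ w)⁻¹ := ⟨by rw [inv_pow, hw'.1, inv_one], inv_ne_one.2 hw'.2⟩
    have hL : (s * u * s) • (w : G) • c = (w⁻¹ : H).1 • (i : G) • c := by
      rw [mul_smul, mul_smul, hσs, hsc, hstar _ hw', hσs, hsic, hw'', ← map_inv, hσ]
    have hR : (u * (i : G) * s * u) • (w : G) • c = (σ w : G) • (i : G) • c := by
      rw [mul_smul, mul_smul, mul_smul, hstar _ hw, hσs, hsic, map_mul, hw'']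
      have hcomm : i * (σ w)⁻¹ = (σ w)⁻¹ * i := by
        have hz : (σ w)⁻¹ * i * ((σ w)⁻¹)⁻¹ = i := huniq _
          (fun e => hi1 (by rw [mul_inv_eq_one, mul_eq_left] at e; exact e))
          (by rw [conj_mul, hi2, mul_one, mul_inv_cancel])
        exact (mul_inv_eq_iff_eq_mul.1 hz).symm
      rw [← mul_smul (i : G), ← Subgroup.coe_mul, hcomm, Subgroup.coe_mul, mul_smul,
        ← mul_smul (i : G) (i : G), ← Subgroup.coe_mul H i i, hi2, Subgroup.coe_one, one_smul,
        hstar _ hw''', ← mul_inv_rev, hw'', inv_inv]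
    rw [hid] at hL
    exact hinj (hne i hac.symm hbc.symm).1 (hne i hac.symm hbc.symm).2 (hR.symm.trans hL)
  -- the centralizer of the elements of order three
  set Z := Subgroup.centralizer {w : H | Ord3 w} with hZ
  haveI hZn : Z.Normal := ⟨fun z hz g => by
    rw [hZ, Subgroup.mem_centralizer_iff] at hz ⊢
    intro w hw
    have h1 := hz (g⁻¹ * w * g) ⟨by
      have e : (g⁻¹ * w * g⁻¹⁻¹) ^ 3 = 1 := by rw [conj_pow, hw.1, mul_one, mul_inv_cancel]
      rwa [inv_inv] at e, fun e => hw.2 (by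
      calc w = g * (g⁻¹ * w * g) * g⁻¹ := by group
        _ = 1 := by rw [e, mul_one, mul_inv_cancel])⟩
    calc w * (g * z * g⁻¹) = g * ((g⁻¹ * w * g) * z) * g⁻¹ := by group
      _ = g * (z * (g⁻¹ * w * g)) * g⁻¹ := by rw [h1]
      _ = g * z * g⁻¹ * w := by group⟩
  have hD : ∀ h : H, h⁻¹ * σ h ∈ Z := by
    intro h
    rw [hZ, Subgroup.mem_centralizer_iff]
    intro w hw
    have e := hinv3 (h * w * h⁻¹) ⟨by rw [conj_pow, hw.1, mul_one, mul_inv_cancel],
      fun e => hw.2 (by rw [mul_inv_eq_one, mul_eq_left] at e; exact e)⟩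
    rw [map_mul, map_mul, map_inv, hinv3 w hw] at e
    have e' : σ h * w * (σ h)⁻¹ = h * w * h⁻¹ := by
      have := congrArg (·⁻¹) e
      simpa [mul_assoc] using this
    calc w * (h⁻¹ * σ h) = h⁻¹ * (h * w * h⁻¹) * σ h := by group
      _ = h⁻¹ * (σ h * w * (σ h)⁻¹) * σ h := by rw [e']
      _ = h⁻¹ * σ h * w := by group
  have hidx : Z.index ≤ 2 := by
    haveI := Fintype.ofFinite H
    haveI := Fintype.ofFinite Z
    let f : H → Z := fun x => ⟨x⁻¹ * σ x, hD x⟩
    have hb' : Nat.card H ≤ 2 * Nat.card Z := by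
      rw [Nat.card_eq_fintype_card, Nat.card_eq_fintype_card]
      refine (Finset.card_le_mul_card_image (f := f) Finset.univ 2 fun y hy => ?_).trans
        (Nat.mul_le_mul_left 2 (Finset.card_le_univ _))
      obtain ⟨x, -, rfl⟩ := Finset.mem_image.1 hy
      refine le_trans (Finset.card_le_card (t := {x, i * x}) fun x' hx' => ?_) Finset.card_le_two
      simp only [Finset.mem_filter, Finset.mem_univ, true_and] at hx'
      have e : x'⁻¹ * σ x' = x⁻¹ * σ x := congrArg Subtype.val hx'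
      have hfixed : σ (x' * x⁻¹) = x' * x⁻¹ := by
        rw [map_mul, map_inv]
        calc σ x' * (σ x)⁻¹ = x' * (x'⁻¹ * σ x') * (σ x)⁻¹ := by group
          _ = x' * (x⁻¹ * σ x) * (σ x)⁻¹ := by rw [e]
          _ = x' * x⁻¹ := by group
      simp only [Finset.mem_insert, Finset.mem_singleton]
      rcases hfix _ hfixed with h | h
      · exact Or.inl (mul_inv_eq_one.1 h)
      · exact Or.inr (eq_mul_of_mul_inv_eq h)
    have h3' := Z.index_mul_card
    by_contra hlt
    have h4 : 3 * Nat.card Z ≤ Z.index * Nat.card Z := Nat.mul_le_mul_right _ (by omega)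
    have : 0 < Nat.card Z := Nat.card_pos
    omega
  obtain ⟨N, hN2, hNσ⟩ : ∃ N : Subgroup H, N.index = 2 ∧ ∀ n ∈ N, σ n ∈ N := by
    rcases Nat.lt_or_ge Z.index 2 with h1 | h1
    · refine exists_invariant_index_two σ hσ ?_
      have htop : Z = ⊤ := by
        have : Z.index ≠ 0 := Subgroup.index_ne_zero_of_finite
        exact Subgroup.index_eq_one.1 (by omega)
      exact exists_index_two_end ρ hreg (p := p) hnsmul h2H fun w hw =>
        Subgroup.mem_center_iff.2 fun z =>
          (Subgroup.mem_centralizer_iff.1 (htop ▸ Subgroup.mem_top z) w hw).symm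
    · refine ⟨Z, le_antisymm hidx h1, fun z hz => ?_⟩
      rw [hZ, Subgroup.mem_centralizer_iff] at hz ⊢
      intro w hw
      have := congrArg σ (hz w⁻¹ ⟨by rw [inv_pow, hw.1, inv_one], inv_ne_one.2 hw.2⟩)
      rwa [map_mul, map_mul, map_inv, hinv3 w hw, inv_inv] at this
  have hsub : (N.map H.subtype).subgroupOf H = N :=
    Subgroup.comap_map_eq_self_of_injective H.subtype_injective N
  refine ⟨N.map H.subtype, Subgroup.map_subtype_le N, ?_, ?_, ?_⟩
  · rw [hsub]; exact Subgroup.normal_of_index_eq_two hN2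
  · rw [Subgroup.relIndex, hsub, hN2]
  · rintro _ ⟨n, hn, rfl⟩
    exact ⟨σ n, hNσ n hn, rfl⟩

end Cfsg.Agent.Perm.Zassenhaus
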