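import Mathlib
import Cfsg.Agent.Lib.Perm.Zassenhaus.Main
import Cfsg.Agent.Lib.Perm.Zassenhaus.IndexTwo
import Cfsg.Agent.Lib.CharTheory.Zassenhaus.Basic

/-! A sharply 3-transitive group of even degree has a subgroup of index two. -/

set_option autoImplicit false
set_option maxHeartbeats 400000

namespace Cfsg.Agent.Perm.Zassenhaus

open MulAction

variable {G Ω : Type*} [Group G] [MulAction G Ω]

/-- The two-point stabiliser of a simple Zassenhaus group is not both full and of even order. -/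
theorem no_simple_sharp_even [Finite G] [Fintype Ω] [IsSimpleGroup G]
    (hZ : Cfsg.IsZassenhausGroup G Ω) {a b : Ω} {F : Subgroup G} (h : Frame3 a b F)
    (hcard : Fintype.card Ω = Nat.card ↥(stabilizer G a ⊓ stabilizer G b) + 2)
    (heven : Even (Nat.card ↥(stabilizer G a ⊓ stabilizer G b))) : False := by
  classical
  haveI := hZ.1
  have hab := h.ne
  set D := stabilizer G a ⊓ stabilizer G b with hD
  have hcardF := h.card_F
  rw [Nat.card_eq_fintype_card] at hcardF
  have hc' : CharTheory.Zassenhaus.Config a b F :=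
    ⟨hZ, hab, h.le, hcardF.symm, h.fix_only⟩
  obtain ⟨h3, hsharp⟩ := sharp_three hZ hab (by rw [Nat.card_eq_fintype_card]; exact hcard)
  have hD1 : 1 < Nat.card D := two_lt_stab hZ hab
  obtain ⟨c, -, hc⟩ := Finset.exists_mem_notMem_of_card_lt_card
    (s := ({a, b} : Finset Ω)) (t := Finset.univ)
    (by rw [Finset.card_pair hab, Finset.card_univ]; omega)
  simp only [Finset.mem_insert, Finset.mem_singleton, not_or] at hc
  have hca : c ≠ a := hc.1
  have hcb : c ≠ b := hc.2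
  obtain ⟨s, hsa, hsb, hsc⟩ := exists_triple h3 hab hca.symm hcb.symm hab.symm hcb.symm hca.symm
  obtain ⟨N, hND, -, hN2, hNs⟩ := index_two_of_sharp_three hZ.1 h3 hsharp
    (by rw [Nat.card_eq_fintype_card, hcard]; exact heven.add even_two)
    (by rw [Nat.card_eq_fintype_card]; omega) hab hca.symm hcb.symm s hsa hsb hsc
  have hss : s * s = 1 := eq_one_of_three hsharp hab hca.symm hcb.symm
    (by rw [mul_smul, hsa, hsb]) (by rw [mul_smul, hsb, hsa]) (by rw [mul_smul, hsc, hsc])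
  have hsinv : s⁻¹ = s := inv_eq_of_mul_eq_one_right hss
  have hDa : ∀ {x : G}, x ∈ D → x • a = a := fun hx => hx.1
  have hDb : ∀ {x : G}, x ∈ D → x • b = b := fun hx => hx.2
  have hσ : ∀ {x : G}, x ∈ D → s * x * s ∈ D := fun {x} hx => by
    have := CharTheory.Zassenhaus.swap_conj_two hc' hsa hsb hx
    rwa [hsinv] at this
  have hNσ : ∀ x : G, s * x * s ∈ N ↔ x ∈ N := fun x => by
    refine ⟨fun hx => ?_, fun hx => by simpa [hsinv] using hNs x hx⟩
    have := hNs _ hx
    rw [hsinv] at this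
    rwa [show s * (s * x * s) * s = (s * s) * x * (s * s) by group, hss, one_mul, mul_one] at this
  -- the character
  have hN2' : (N.subgroupOf D).index = 2 := hN2
  let χ : D →* ℤˣ := MonoidHom.mk' (fun x => if (x : G) ∈ N then 1 else -1) fun x y => by
    have := Subgroup.mul_mem_iff_of_index_two hN2' (a := x) (b := y)
    simp only [Subgroup.mem_subgroupOf, Subgroup.coe_mul] at this
    by_cases hx : (x : G) ∈ N <;> by_cases hy : (y : G) ∈ N <;> simp_all
  have hχσ : ∀ x : D, χ ⟨s * x * s, hσ x.2⟩ = χ x := fun x => by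
    show (if s * (x : G) * s ∈ N then (1 : ℤˣ) else -1) = if (x : G) ∈ N then 1 else -1
    rw [if_congr (hNσ x) rfl rfl]
  obtain ⟨x₁, hx₁⟩ : ∃ x₁ : D, χ x₁ = -1 := by
    by_contra! hne
    have : N.subgroupOf D = ⊤ := by
      rw [eq_top_iff]
      intro x _
      by_contra hx
      exact hne x (if_neg hx)
    rw [this, Subgroup.index_top] at hN2'
    omega
  obtain ⟨π, hπF, hπD⟩ := CharTheory.Zassenhaus.exists_proj hc'
  let ψ : stabilizer G a →* ℤˣ := χ.comp π
  -- the involution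
  haveI : Fact (Nat.Prime 2) := ⟨Nat.prime_two⟩
  obtain ⟨⟨i, hi⟩, hio⟩ := exists_prime_orderOf_dvd_card' 2 heven.two_dvd
  rw [Subgroup.orderOf_mk] at hio
  have hi2 : i * i = 1 := CharTheory.Zassenhaus.inv_mul_self hio
  have hi1 : i ≠ 1 := fun e => by simp [e] at hio
  have hfree : ∀ x ∈ D, ∀ u ∈ F, u ≠ 1 → x * u * x⁻¹ = u → x = 1 := by
    intro x hx u hu hu1 e
    by_contra hx1
    have hb := CharTheory.Zassenhaus.two_fpf hc' x hx hx1
    exact hu1 ((Subgroup.eq_bot_iff_forall _).1 hb u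
      ⟨hu, Subgroup.mem_centralizer_singleton_iff.2 (mul_inv_eq_iff_eq_mul.1 e).symm⟩)
  have hneg : ∀ j ∈ D, j ≠ 1 → j * j = 1 → ∀ u ∈ F, j * u * j⁻¹ = u⁻¹ := by
    intro j hj hj1 hj2 u hu
    have hju := h.normal j (hDa hj) u hu
    by_contra hne
    refine hj1 (hfree j hj _ (F.mul_mem hu hju) (fun e => hne (eq_inv_of_mul_eq_one_right e)) ?_)
    have hj' : j⁻¹ = j := inv_eq_of_mul_eq_one_right hj2
    rw [← conj_mul, h.comm _ hju _ (h.normal j (hDa hj) _ hju)]
    congr 1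
    rw [hj', show j * (j * u * j) * j = (j * j) * u * (j * j) by group, hj2, one_mul, mul_one]
  obtain ⟨⟨u, huF⟩, hub, -⟩ := h.reg b c hab.symm hca
  have hub' : u • b = c := hub
  have hua : u • a = a := h.le huF
  have hu1 : u ≠ 1 := fun e => hcb (by rw [← hub', e, one_smul])
  have huniq : ∀ j ∈ D, j ≠ 1 → j * j = 1 → j = i := by
    intro j hj hj1 hj2
    have e1 := hneg j hj hj1 hj2 u huF
    have e2 := hneg i hi hi1 hi2 u huF
    refine (inv_mul_eq_one.1 (hfree (i⁻¹ * j) (D.mul_mem (D.inv_mem hi) hj) u huF hu1 ?_)).symm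
    rw [show i⁻¹ * j * u * (i⁻¹ * j)⁻¹ = i⁻¹ * (j * u * j⁻¹) * i by group, e1, ← e2]
    group
  have hσi : s * i * s = i := by
    refine huniq _ (hσ hi) (fun e => hi1 ?_) ?_
    · calc i = (s * s) * i * (s * s) := by rw [hss, one_mul, mul_one]
        _ = s * (s * i * s) * s := by group
        _ = 1 := by rw [e, mul_one, hss]
    · calc s * i * s * (s * i * s) = s * i * (s * s) * i * s := by group
        _ = s * (i * i) * s := by rw [hss, mul_one]; group
        _ = 1 := by rw [hi2, mul_one, hss]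
  have hic : i • c = u⁻¹ • b := by
    rw [← hub', ← mul_smul, mul_inv_eq_iff_eq_mul.1 (hneg i hi hi1 hi2 u huF), mul_smul, hDb hi]
  have hsic : s • i • c = i • c := by
    conv_rhs => rw [← hσi, mul_smul, mul_smul, hsc]
  have hid : s * u * s = u * i * s * u := by
    refine (inv_mul_eq_one.1 (eq_one_of_three (x := a) (y := b) (z := i • c) hsharp hab
      (fun e => hca (MulAction.injective i (e.symm.trans (hDa hi).symm)))
      (fun e => hcb (MulAction.injective i (e.symm.trans (hDb hi).symm))) ?_ ?_ ?_)).symm <;>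
      rw [mul_smul, inv_smul_eq_iff]
    · simp only [mul_smul, hsa, hub', hsc, hua, hDb hi]
    · simp only [mul_smul, hsb, hub', hua, hsa, hsc, hic, smul_inv_smul]
    · simp only [mul_smul, hsic]
      rw [hic, smul_inv_smul, hsb, hDa hi, hua]
  let ε : ℤˣ := χ ⟨i, hi⟩
  -- the decomposition
  have hv : ∀ g : G, g • a ≠ a → ∃ v : F, (v : G)⁻¹ • b = g⁻¹ • a := by
    intro g hg
    obtain ⟨v, hv, e⟩ := CharTheory.Zassenhaus.exists_mem_smul hc'
      (c := g⁻¹ • a) (fun e => hg (inv_smul_eq_iff.1 e).symm)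
    exact ⟨⟨v⁻¹, F.inv_mem hv⟩, by simpa using e⟩
  choose v hvb using hv
  have hmem : ∀ (g : G) (hg : g • a ≠ a), g * (v g hg : G)⁻¹ * s ∈ stabilizer G a := fun g hg => by
    show (g * (v g hg : G)⁻¹ * s) • a = a
    rw [mul_smul, mul_smul, hsa, hvb, smul_inv_smul]
  let Φ : G → ℤˣ := fun g =>
    if hg : g • a = a then ψ ⟨g, hg⟩ else ψ ⟨_, hmem g hg⟩ * ε
  have hΦ0 : ∀ x : stabilizer G a, Φ (x : G) = ψ x := fun x => dif_pos x.2
  have hΦ1 : ∀ (x : stabilizer G a), ∀ w ∈ F, Φ ((x : G) * s * w) = ψ x * ε := by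
    intro x w hw
    have hwa : w • a = a := h.le hw
    have hne : ((x : G) * s * w) • a ≠ a := by
      rw [mul_smul, mul_smul, hwa, hsa]
      exact fun e => hab (MulAction.injective (x : G) (e.trans x.2.symm)).symm
    have hvw : (v _ hne : G) = w := by
      refine inv_injective (CharTheory.Zassenhaus.eq_of_smul_eq_a hc' (F.inv_mem (v _ hne).2)
        (F.inv_mem hw) ((hvb _ hne).trans ?_))
      rw [mul_inv_rev, mul_inv_rev, hsinv, mul_smul, mul_smul,
        inv_smul_eq_iff.2 (x.2 : (x : G) • a = a).symm, hsa]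
    refine (dif_neg hne).trans (congrArg (fun y => ψ y * ε) (Subtype.ext ?_))
    show (x : G) * s * w * (v _ hne : G)⁻¹ * s = x
    rw [hvw, mul_inv_cancel_right, mul_assoc, hss, mul_one]
  have hform : ∀ g : G, g • a = a ∨ ∃ x : stabilizer G a, ∃ w ∈ F, g = x * s * w := by
    intro g
    by_cases hg : g • a = a
    · exact Or.inl hg
    · exact Or.inr ⟨⟨_, hmem g hg⟩, v g hg, (v g hg).2, by
        simp only [mul_assoc, ← mul_assoc s s, hss, one_mul, inv_mul_cancel, mul_one]⟩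
  have hψD : ∀ x : D, ψ ⟨(x : G), hDa x.2⟩ = χ x := fun x =>
    congrArg χ (hπD ⟨(x : G), hDa x.2⟩ x.2)
  have hψF : ∀ (w : G) (hw : w ∈ F), ψ ⟨w, h.le hw⟩ = 1 := fun w hw => by
    show χ (π ⟨w, h.le hw⟩) = 1
    rw [hπF ⟨w, h.le hw⟩ hw, map_one]
  have hε : ε * ε = 1 := by
    rcases Int.units_eq_one_or ε with e | e <;> simp [e]
  have hs1 : Φ s = ε := by
    have := hΦ1 1 1 F.one_mem
    simpa using this
  -- `Φ` is multiplicative in the generators
  have hk1 : ∀ (g : G) (k : stabilizer G a), Φ (g * k) = Φ g * Φ (k : G) := by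
    intro g k
    rcases hform g with hg | ⟨x, w, hw, rfl⟩
    · have e1 := hΦ0 (⟨g, hg⟩ * k)
      rw [Subgroup.coe_mul] at e1
      rw [show g = ((⟨g, hg⟩ : stabilizer G a) : G) from rfl] at *
      rw [e1, hΦ0, hΦ0, map_mul]
    · obtain ⟨u', hu', d, hd, hk⟩ := CharTheory.Zassenhaus.exists_decomp hc' k.2
      have hw' : d⁻¹ * (w * u') * d ∈ F := by
        have := h.normal d⁻¹ (inv_smul_eq_iff.2 (hDa hd).symm) _ (F.mul_mem hw hu')
        rwa [inv_inv] at this
      let x' : stabilizer G a := x * ⟨s * d * s, hDa (hσ hd)⟩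
      have e : (x : G) * s * w * k = (x' : G) * s * (d⁻¹ * (w * u') * d) := by
        rw [hk]
        show _ = (x : G) * (s * d * s) * s * _
        simp only [mul_assoc]
        rw [← mul_assoc s s, hss, one_mul, mul_inv_cancel_left]
      rw [e, hΦ1 x' _ hw', hΦ1 x w hw, hΦ0, map_mul, hψD ⟨_, hσ hd⟩, hχσ ⟨d, hd⟩]
      have hk' : k = ⟨u', h.le hu'⟩ * ⟨d, hDa hd⟩ := Subtype.ext hk
      rw [hk', map_mul, hψF u' hu', one_mul, hψD ⟨d, hd⟩, mul_right_comm]
  have hk2 : ∀ g : G, Φ (g * s) = Φ g * Φ s := by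
    intro g
    rw [hs1]
    rcases hform g with hg | ⟨x, w, hw, rfl⟩
    · have := hΦ1 ⟨g, hg⟩ 1 F.one_mem
      rw [mul_one] at this
      rw [this, hΦ0 ⟨g, hg⟩]
    · rw [hΦ1 x w hw, mul_assoc (ψ x), hε, mul_one]
      by_cases hw1 : w = 1
      · rw [hw1, mul_one, mul_assoc, hss, mul_one, hΦ0]
      have hwb : w • b ≠ b := fun e => hab (h.fix_only w hw hw1 b e).symm
      obtain ⟨d, hda, hdb, hdc⟩ := exists_triple h3 hab hca.symm hcb.symm hab
        (fun e => h.smul_ne ⟨w, hw⟩ hab.symm e.symm) hwb.symm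
      have hd : d ∈ D := ⟨hda, hdb⟩
      have hwd : w = d * u * d⁻¹ := by
        refine CharTheory.Zassenhaus.eq_of_smul_eq_a hc' hw (h.normal d hda u huF) ?_
        rw [mul_smul, mul_smul, inv_smul_eq_iff.2 hdb.symm, hub', hdc]
      set d' := s * d * s with hd'
      have hw' : d' * u * d'⁻¹ ∈ F := h.normal d' (hDa (hσ hd)) u huF
      let x' : stabilizer G a := x * (⟨d', hDa (hσ hd)⟩ * ⟨u, hua⟩ * ⟨i, hDa hi⟩ *
        ⟨d, hda⟩⁻¹)
      have e : (x : G) * s * w * s = (x' : G) * s * (d' * u * d'⁻¹) := by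
        show _ = (x : G) * (d' * u * i * d⁻¹) * s * (d' * u * d'⁻¹)
        have e1 : s * (d * u * d⁻¹) * s = d' * (s * u * s) * d'⁻¹ := by
          simp only [hd', mul_inv_rev, hsinv, mul_assoc]
          simp only [← mul_assoc s s, hss, one_mul]
        have e2 : d⁻¹ * s * d' = s := by
          rw [hd', show d⁻¹ * s * (s * d * s) = d⁻¹ * ((s * s) * d) * s by group, hss, one_mul,
            inv_mul_cancel, one_mul]
        calc (x : G) * s * w * s = (x : G) * (s * (d * u * d⁻¹) * s) := by rw [hwd]; group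
          _ = (x : G) * (d' * (u * i * (d⁻¹ * s * d') * u) * d'⁻¹) := by rw [e1, hid, e2]
          _ = _ := by group
      rw [e, hΦ1 x' _ hw', map_mul, map_mul, map_mul, map_mul, map_inv, hψD ⟨d', hσ hd⟩,
        hψF u huF, hψD ⟨i, hi⟩, hψD ⟨d, hd⟩, hχσ ⟨d, hd⟩, mul_one]
      show ψ x * (χ ⟨d, hd⟩ * ε * (χ ⟨d, hd⟩)⁻¹) * ε = ψ x
      rw [mul_comm (χ ⟨d, hd⟩), mul_inv_cancel_right, mul_assoc, hε, mul_one]
  have hmul : ∀ g k : G, Φ (g * k) = Φ g * Φ k := by
    intro g k
    rcases hform k with hk | ⟨x, w, hw, rfl⟩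
    · exact hk1 g ⟨k, hk⟩
    · have hw' : ∀ g, Φ (g * w) = Φ g * Φ w := fun g => hk1 g ⟨w, h.le hw⟩
      rw [← mul_assoc, ← mul_assoc, hw', hk2, hk1, hw' ((x : G) * s), hk2 (x : G)]
      simp only [mul_assoc]
  let f : G →* ℤˣ := MonoidHom.mk' Φ hmul
  rcases f.normal_ker.eq_bot_or_eq_top with hker | hker
  · obtain ⟨g, g', hgg⟩ := CharTheory.Zassenhaus.not_commutative hc'
    exact hgg ((MonoidHom.ker_eq_bot_iff f).1 hker (by rw [map_mul, map_mul, mul_comm]))
  · have h1 : f (x₁ : G) = 1 := MonoidHom.mem_ker.1 (hker ▸ Subgroup.mem_top _)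
    have h2 : f (x₁ : G) = -1 := by
      show Φ _ = _
      rw [show ((x₁ : D) : G) = ((⟨x₁, hDa x₁.2⟩ : stabilizer G a) : G) from rfl, hΦ0, hψD x₁, hx₁]
    exact absurd (h1.symm.trans h2) (by decide)

end Cfsg.Agent.Perm.Zassenhaus
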