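import Mathlib
import Cfsg.Agent.Lib.Perm.Zassenhaus.Action
import Cfsg.Agent.Lib.Perm.Fpf.Main

/-!
# Sharply 3-transitive groups of degree `p ^ f + 1` with `f` odd
-/

set_option autoImplicit false

namespace Cfsg.Agent.Perm.Zassenhaus

/-- An involutive automorphism fixing only `1` and `i`, with a cyclic Sylow 2-subgroup: there is
a commutative normal subgroup of index at most two containing all `x⁻¹ * σ x`. -/
theorem half_abelian {H : Type*} [Group H] [Finite H] (σ : H →* H)
    (hσ : Function.Involutive σ) (i : H) (hi : orderOf i = 2)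
    (hfix : ∀ h, σ h = h → h = 1 ∨ h = i) (hP : ∀ P : Sylow 2 H, IsCyclic (P : Subgroup H)) :
    ∃ N : Subgroup H, N.Normal ∧ N.index ≤ 2 ∧ (∀ a ∈ N, ∀ b ∈ N, a * b = b * a) ∧
      ∀ x : H, x⁻¹ * σ x ∈ N := by
  classical
  haveI : Fact (Nat.Prime 2) := ⟨Nat.prime_two⟩
  obtain ⟨P⟩ : Nonempty (Sylow 2 H) := inferInstance
  haveI := hP P
  have h2 : (Nat.card H).minFac = 2 :=
    (Nat.minFac_eq_two_iff _).2 (hi ▸ orderOf_dvd_natCard i)
  have hle := (hP P).normalizer_le_centralizer (P := P) h2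
  set τ := MonoidHom.transferSylow P hle
  set M := τ.ker with hM
  have hodd : ¬ 2 ∣ Nat.card M := MonoidHom.not_dvd_card_ker_transferSylow P hle
  have hσM : ∀ m ∈ M, σ m ∈ M := by
    intro m hm
    have h1 : orderOf (τ (σ m)) ∣ orderOf m :=
      (orderOf_map_dvd τ (σ m)).trans (orderOf_map_dvd σ m)
    have h2' : orderOf m ∣ Nat.card M := Subgroup.orderOf_dvd_natCard M hm
    obtain ⟨k, hk⟩ := (IsPGroup.iff_orderOf.1 P.2) (τ (σ m))
    rcases Nat.eq_zero_or_pos k with rfl | hpos
    · rw [pow_zero, orderOf_eq_one_iff] at hk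
      exact hk
    · exfalso
      refine hodd ((dvd_trans ?_ h1).trans h2')
      rw [hk]
      exact dvd_pow_self 2 hpos.ne'
  let σM : M →* M :=
    { toFun := fun m => ⟨σ m, hσM m m.2⟩
      map_one' := Subtype.ext (map_one σ)
      map_mul' := fun a b => Subtype.ext (map_mul σ _ _) }
  have hfp : MonoidHom.FixedPointFree σM := by
    intro m hm
    rcases hfix m (congrArg Subtype.val hm) with h | h
    · exact Subtype.ext h
    · refine absurd ?_ hodd
      rw [← hi, ← h, Subgroup.orderOf_coe]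
      exact orderOf_dvd_natCard m
  have hinv : Function.Involutive σM := fun m => Subtype.ext (hσ m)
  have hMinv : ∀ m ∈ M, σ m = m⁻¹ := fun m hm =>
    congrArg Subtype.val (congrFun (hfp.coe_eq_inv_of_involutive hinv) ⟨m, hm⟩)
  have hMc : ∀ a ∈ M, ∀ b ∈ M, a * b = b * a := fun a ha b hb =>
    congrArg Subtype.val (hfp.commute_all_of_involutive hinv ⟨a, ha⟩ ⟨b, hb⟩).eq
  haveI hMn : M.Normal := inferInstance
  set Z := Subgroup.centralizer (M : Set H) with hZ
  have hD : ∀ x : H, x⁻¹ * σ x ∈ Z := by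
    intro x
    rw [Subgroup.mem_centralizer_iff]
    intro m hm
    have h1 := hMinv _ (hMn.conj_mem m hm x)
    rw [map_mul, map_mul, map_inv, hMinv m hm] at h1
    have e : σ x * m * (σ x)⁻¹ = x * m * x⁻¹ := by
      have := congrArg (·⁻¹) h1
      simpa [mul_assoc] using this
    calc m * (x⁻¹ * σ x) = x⁻¹ * (x * m * x⁻¹) * σ x := by group
      _ = x⁻¹ * (σ x * m * (σ x)⁻¹) * σ x := by rw [e]
      _ = x⁻¹ * σ x * m := by group
  refine ⟨Z, inferInstance, ?_, ?_, hD⟩
  · haveI := Fintype.ofFinite H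
    let f : H → Z := fun x => ⟨x⁻¹ * σ x, hD x⟩
    have hb : Nat.card H ≤ 2 * Nat.card Z := by
      haveI := Fintype.ofFinite Z
      rw [Nat.card_eq_fintype_card, Nat.card_eq_fintype_card]
      refine (Finset.card_le_mul_card_image (f := f) Finset.univ 2 fun y hy => ?_).trans
        (Nat.mul_le_mul_left 2 (Finset.card_le_univ _))
      obtain ⟨x, -, rfl⟩ := Finset.mem_image.1 hy
      refine le_trans (Finset.card_le_card (t := {x, i * x}) fun x' hx' => ?_) Finset.card_le_two
      simp only [Finset.mem_filter, Finset.mem_univ, true_and] at hx'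
      have e : x'⁻¹ * σ x' = x⁻¹ * σ x := congrArg Subtype.val hx'
      have hfixed : σ (x' * x⁻¹) = x' * x⁻¹ := by
        rw [map_mul, map_inv]
        calc σ x' * (σ x)⁻¹ = x' * (x'⁻¹ * σ x') * (σ x)⁻¹ := by group
          _ = x' * (x⁻¹ * σ x) * (σ x)⁻¹ := by rw [e]
          _ = x' * x⁻¹ := by group
      simp only [Finset.mem_insert, Finset.mem_singleton]
      rcases hfix _ hfixed with h | h
      · exact Or.inl (mul_inv_eq_one.1 h)
      · exact Or.inr (eq_mul_of_mul_inv_eq h)
    have h3 := Z.index_mul_card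
    by_contra hlt
    have h4 : 3 * Nat.card Z ≤ Z.index * Nat.card Z := Nat.mul_le_mul_right _ (by omega)
    have : 0 < Nat.card Z := Nat.card_pos
    omega
  · intro a ha b hb
    have hker : (τ.comp Z.subtype).ker ≤ Subgroup.center Z := by
      intro m hm
      rw [Subgroup.mem_center_iff]
      intro z
      exact Subtype.ext (Subgroup.mem_centralizer_iff.1 z.2 (m : H) hm).symm
    exact congrArg Subtype.val (commutative_of_cyclic_center_quotient (τ.comp Z.subtype) hker
      (⟨a, ha⟩ : Z) ⟨b, hb⟩)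

section Quaternion

variable {p : ℕ} [hp : Fact p.Prime] {V : Type*} [AddCommGroup V] [Module (ZMod p) V] [Finite V]

/-- two anticommuting square roots of minus one force even dimension -/
theorem finrank_even {I J : Module.End (ZMod p) V} (hII : I * I = -1) (hJJ : J * J = -1)
    (hJI : J * I = -(I * J)) (hp2 : p ≠ 2) : Even (Module.finrank (ZMod p) V) := by
  haveI : NeZero (2 : ZMod p) := ⟨by
    intro h
    exact hp2 ((Nat.prime_dvd_prime_iff_eq hp.out Nat.prime_two).1
      ((ZMod.natCast_eq_zero_iff 2 p).1 h))⟩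
  have h2 : (2 : ZMod p) ≠ 0 := NeZero.ne _
  obtain ⟨x, y, hxy⟩ := ZMod.sq_add_sq p (-1)
  set T := x • I + y • J with hTdef
  set U := I * J with hUdef
  have hT : T * T = 1 := by
    have h1 : T * T = (x ^ 2) • (I * I) + (x * y) • (I * J) + (x * y) • (J * I)
        + (y ^ 2) • (J * J) := by
      simp only [hTdef, mul_add, add_mul, smul_mul_smul_comm, pow_two, mul_comm y x]
      abel
    rw [h1, hII, hJJ, hJI, smul_neg, smul_neg, smul_neg, add_neg_cancel_right, ← neg_add,
      ← add_smul, hxy, neg_smul, one_smul, neg_neg]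
  have hII' : ∀ Z, I * (I * Z) = -Z := fun Z => by rw [← mul_assoc, hII, neg_one_mul]
  have hJJ' : ∀ Z, J * (J * Z) = -Z := fun Z => by rw [← mul_assoc, hJJ, neg_one_mul]
  have hJI' : ∀ Z, J * (I * Z) = -(I * (J * Z)) := fun Z => by
    rw [← mul_assoc, hJI, neg_mul, mul_assoc]
  have hTU : T * U = -(U * T) := by
    simp only [hTdef, hUdef, add_mul, mul_add, smul_mul_assoc, mul_smul_comm, mul_assoc, hII',
      hJI', hJJ, hJI]
    simp [hII']
    abel
  have hUU : ∀ v, U (U v) = -v := by
    intro v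
    rw [← Module.End.mul_apply, hUdef, mul_assoc, hJI', hJJ, mul_neg, hII', neg_neg]
    rfl
  set E := LinearMap.ker (T - 1)
  set E' := LinearMap.ker (T + 1)
  have hE : ∀ v, v ∈ E ↔ T v = v := fun v => by
    simp [E, LinearMap.mem_ker, sub_eq_zero]
  have hE' : ∀ v, v ∈ E' ↔ T v = -v := fun v => by
    simp [E', LinearMap.mem_ker, add_eq_zero_iff_eq_neg]
  have hTU' : ∀ v, T (U v) = -U (T v) := fun v => by
    rw [← Module.End.mul_apply, hTU]; rfl
  have hcompl : IsCompl E E' := by
    constructor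
    · rw [Submodule.disjoint_def]
      intro v h1 h2'
      rw [hE] at h1
      rw [hE', h1] at h2'
      have : (2 : ZMod p) • v = 0 := by rw [two_smul, ← sub_neg_eq_add, ← h2', sub_self]
      exact (smul_eq_zero.1 this).resolve_left h2
    · rw [codisjoint_iff, eq_top_iff]
      intro v _
      rw [Submodule.mem_sup]
      refine ⟨(2 : ZMod p)⁻¹ • (v + T v), ?_, (2 : ZMod p)⁻¹ • (v - T v), ?_, ?_⟩
      · rw [hE, map_smul, map_add, ← Module.End.mul_apply, hT, Module.End.one_apply, add_comm]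
      · rw [hE', map_smul, map_sub, ← Module.End.mul_apply, hT, Module.End.one_apply, ← smul_neg,
          neg_sub]
      · rw [← smul_add, add_add_sub_cancel, ← two_smul (ZMod p) v, inv_smul_smul₀ h2]
  have heq : Module.finrank (ZMod p) E = Module.finrank (ZMod p) E' := by
    refine LinearEquiv.finrank_eq
      { toFun := fun v => ⟨U v, (hE' _).2 (by rw [hTU', (hE _).1 v.2])⟩
        invFun := fun v => ⟨-U v, (hE _).2 (by
          rw [map_neg, hTU', (hE' _).1 v.2, map_neg, neg_neg])⟩
        map_add' := fun a b => Subtype.ext (map_add U _ _)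
        map_smul' := fun c a => Subtype.ext (map_smul U c _)
        left_inv := fun v => Subtype.ext (by simp [hUU])
        right_inv := fun v => Subtype.ext (by simp [hUU]) }
  rw [← Submodule.finrank_add_eq_of_isCompl hcompl, ← heq]
  exact ⟨_, rfl⟩

end Quaternion

/-- the stabilizer as linear maps -/
noncomputable def repLin {V : Type*} [AddCommGroup V] {p : ℕ} [Module (ZMod p) V]
    {G : Subgroup (Equiv.Perm (Option V))} (hG : Core G) : stab G →* Module.End (ZMod p) V where
  toFun h := (endHom hG h).toZModLinearMap p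
  map_one' := LinearMap.ext fun _ => rfl
  map_mul' a b := LinearMap.ext fun x => hG.pt_mul a.2 b.2 x

theorem repLin_apply {V : Type*} [AddCommGroup V] {p : ℕ} [Module (ZMod p) V]
    {G : Subgroup (Equiv.Perm (Option V))} (hG : Core G) (h : stab G) (x : V) :
    repLin (p := p) hG h x = pt (h : Equiv.Perm (Option V)) x := rfl

/-- a quaternion group of linear maps without fixed vectors needs even dimension -/
theorem no_quaternion {p : ℕ} [hp : Fact p.Prime] {V : Type*} [AddCommGroup V] [Module (ZMod p) V]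
    [Finite V] (hp2 : p ≠ 2) {k : ℕ} (ψ : QuaternionGroup (2 ^ (k + 1)) →* Module.End (ZMod p) V)
    (hψ : ∀ q u, ψ q u = u → u ≠ 0 → q = 1) : Even (Module.finrank (ZMod p) V) := by
  -- the central involution is minus one
  set z : QuaternionGroup (2 ^ (k + 1)) := QuaternionGroup.a ((2 ^ (k + 1) : ℕ) : ZMod (2 * 2 ^ (k + 1)))
  have hz1 : z ≠ 1 := by
    intro h
    rw [QuaternionGroup.one_def] at h
    have h' := (ZMod.natCast_eq_zero_iff _ _).1 (QuaternionGroup.a.inj h)
    have := Nat.le_of_dvd (Nat.two_pow_pos _) h'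
    have : 0 < 2 ^ (k + 1) := Nat.two_pow_pos _
    omega
  have hz2 : z * z = 1 := by
    rw [QuaternionGroup.a_mul_a, QuaternionGroup.one_def, ← Nat.cast_add, ← two_mul,
      ZMod.natCast_self]
  have hzE : ψ z = -1 := by
    refine LinearMap.ext fun u => ?_
    rw [LinearMap.neg_apply, Module.End.one_apply, eq_neg_iff_add_eq_zero]
    by_contra hne
    refine hz1 (hψ z _ ?_ hne)
    rw [map_add, ← Module.End.mul_apply, ← map_mul, hz2, map_one, Module.End.one_apply, add_comm]
  set gI : QuaternionGroup (2 ^ (k + 1)) := QuaternionGroup.a ((2 ^ k : ℕ) : ZMod (2 * 2 ^ (k + 1)))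
  set gJ : QuaternionGroup (2 ^ (k + 1)) := QuaternionGroup.xa 0
  have hII : gI * gI = z := by
    rw [QuaternionGroup.a_mul_a]
    congr 1
    rw [← Nat.cast_add, pow_succ, mul_two]
  have hJJ : gJ * gJ = z := by
    rw [QuaternionGroup.xa_mul_xa]
    simp [z]
  have hJI : gJ * gI = z * (gI * gJ) := by
    rw [QuaternionGroup.xa_mul_a, QuaternionGroup.a_mul_xa, QuaternionGroup.a_mul_xa]
    congr 1
    have h0 : ((2 * 2 ^ (k + 1) : ℕ) : ZMod (2 * 2 ^ (k + 1))) = 0 := ZMod.natCast_self _
    simp only [Nat.cast_mul, Nat.cast_pow, pow_succ] at h0 ⊢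
    push_cast at h0 ⊢
    linear_combination h0
  exact finrank_even (I := ψ gI) (J := ψ gJ)
    (by rw [← map_mul, hII, hzE]) (by rw [← map_mul, hJJ, hzE])
    (by rw [← map_mul, hJI, map_mul, hzE, neg_one_mul, map_mul]) hp2

variable {V : Type*} [AddCommGroup V] [Finite V] [Nontrivial V]
  {G : Subgroup (Equiv.Perm (Option V))}

theorem sylow_two_cyclic_aux {p f : ℕ} [hp : Fact p.Prime] [Module (ZMod p) V] (hG : Core G)
    (hp2 : p ≠ 2) (hf : Odd f) (hV : Nat.card V = p ^ f) (P : Sylow 2 (stab G)) :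
    IsCyclic (P : Subgroup (stab G)) := by
  classical
  set ρ := repLin (p := p) hG with hρ_def
  have hρ : ∀ h x, ρ h x = pt (h : Equiv.Perm (Option V)) x := repLin_apply hG
  have hfree : ∀ (g : stab G) (u : V), ρ g u = u → u ≠ 0 → g = 1 := fun g u e hu =>
    Subtype.ext (hG.free _ g.2.1 g.2.2.1 g.2.2.2 u hu
      (by rw [hG.apply_stab g.2, ← hρ, e]))
  rcases Fpf.pgroup_shape ρ hfree (P : Subgroup (stab G)) P.2 with h | ⟨-, n, ⟨e⟩⟩
  · exact h
  rcases Nat.eq_zero_or_pos n with rfl | hn
  · refine isCyclic_of_orderOf_eq_card (e.symm (QuaternionGroup.xa 0)) ?_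
    rw [MulEquiv.orderOf_eq, Nat.card_congr e.toEquiv, QuaternionGroup.orderOf_xa,
      Nat.card_eq_fintype_card, QuaternionGroup.card]
    norm_num
  exfalso
  obtain ⟨k, rfl⟩ : ∃ k, n = k + 1 := ⟨n - 1, by omega⟩
  set ψ : QuaternionGroup (2 ^ (k + 1)) →* Module.End (ZMod p) V :=
    ρ.comp ((P : Subgroup (stab G)).subtype.comp e.symm.toMonoidHom)
  have hψ : ∀ q : QuaternionGroup (2 ^ (k + 1)), ∀ u, ψ q u = u → u ≠ 0 → q = 1 := fun q u h1 h2 => by
    have := hfree _ u h1 h2
    exact e.symm.map_eq_one_iff.1 (Subtype.ext this)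
  have hev := no_quaternion hp2 ψ hψ
  have hfr : Module.finrank (ZMod p) V = f := by
    have h := Module.natCard_eq_pow_finrank (K := ZMod p) (V := V)
    rw [hV, Nat.card_zmod] at h
    exact (Nat.pow_right_injective hp.out.two_le h).symm
  exact (Nat.not_even_iff_odd.2 hf) (hfr ▸ hev)

/-- the Sylow 2-subgroups of a full two-point stabilizer are cyclic when `f` is odd -/
theorem sylow_two_cyclic (hG : Core G) {p f : ℕ} [hp : Fact p.Prime] (hp2 : p ≠ 2) (hf : Odd f)
    (hV : Nat.card V = p ^ f) (hfull : Nat.card (stab G) = Nat.card V - 1)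
    (P : Sylow 2 (stab G)) : IsCyclic (P : Subgroup (stab G)) := by
  classical
  -- `V` has exponent `p`
  obtain ⟨v, hv⟩ := exists_prime_addOrderOf_dvd_card' (G := V) p
    (by rw [hV]; exact dvd_pow_self p hf.pos.ne')
  have hv0 : v ≠ 0 := fun e => by simp [e] at hv; exact hp.out.one_lt.ne hv
  have hexp : ∀ u : V, p • u = 0 := by
    intro u
    by_cases hu : u = 0
    · rw [hu, smul_zero]
    let g : stab G → {y : V // y ≠ 0} := fun h => ⟨pt (h : Equiv.Perm (Option V)) v, fun e => hv0
      (Option.some.inj ((h : Equiv.Perm (Option V)).injective (by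
        rw [hG.apply_stab h.2, e, h.2.2.2])))⟩
    have hinj : Function.Injective g := fun a b e =>
      Subtype.ext (hG.eq_of_pt a.2 b.2 hv0 (congrArg Subtype.val e))
    have hc : Nat.card {y : V // y ≠ 0} = Nat.card (stab G) := by
      haveI := Fintype.ofFinite V
      rw [Nat.card_eq_fintype_card, Fintype.card_subtype_compl, Fintype.card_subtype_eq,
        ← Nat.card_eq_fintype_card, hfull]
    obtain ⟨h, hh⟩ := ((Nat.bijective_iff_injective_and_card g).2 ⟨hinj, hc.symm⟩).2 ⟨u, hu⟩
    have hu' : pt (h : Equiv.Perm (Option V)) v = u := congrArg Subtype.val hh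
    rw [← hu', ← endHom_apply hG h v, ← map_nsmul,
      addOrderOf_dvd_iff_nsmul_eq_zero.1 (dvd_of_eq hv), map_zero]
  letI : Module (ZMod p) V := AddCommGroup.zmodModule hexp
  exact sylow_two_cyclic_aux (p := p) hG hp2 hf hV P

/-- multiplications, when a commutative part has index two, and `f` is odd -/
theorem all_scalar {K : Type*} [Field K] [Fintype K] [DecidableEq K] {p f : ℕ}
    [hp : Fact p.Prime] (hf : Odd f) (hK : Fintype.card K = p ^ f)
    {G : Subgroup (Equiv.Perm (Option K))} (hG : Core G) {A : Subgroup (Equiv.Perm (Option K))}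
    (hA : A ≤ stab G) (hbig : Nat.card K - 1 ≤ 2 * Nat.card A)
    (hscal : ∀ a ∈ A, ∃ u : Kˣ, a = mulP u)
    (hn : ∀ y ∈ stab G, (∀ a ∈ A, y * a * y⁻¹ ∈ A) ∧ y * y ∈ A) :
    ∀ y ∈ stab G, ∃ u : Kˣ, y = mulP u := by
  classical
  intro y hy
  obtain ⟨hconj, hyy⟩ := hn y hy
  set c := pt y 1 with hc_def
  have hc : c ≠ 0 := fun e => one_ne_zero (α := K) (Option.some.inj (y.injective (by
    rw [hG.apply_stab hy, ← hc_def, e, hy.2.2])))
  set θ : K → K := fun x => pt y x / c with hθ_def
  have hadd : ∀ a b, θ (a + b) = θ a + θ b := fun a b => by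
    simp only [hθ_def, hG.pt_add hy, add_div]
  have hone : θ 1 = 1 := div_self hc
  have hU : ∀ u : Kˣ, mulP u ∈ A → ∀ x : K, θ (u * x) = θ u * θ x := by
    intro u hu
    obtain ⟨u', hu'⟩ := hscal _ (hconj _ hu)
    have key : ∀ x : K, pt y (u * x) = u' * pt y x := by
      intro x
      have h1 : pt (y * mulP u) x = pt (mulP u' * y) x := by
        rw [← hu', inv_mul_cancel_right]
      rwa [hG.pt_mul hy (hA hu), hG.pt_mul (hA (hu' ▸ hconj _ hu)) hy, pt_mulP, pt_mulP] at h1
    intro x
    have h1 := key 1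
    rw [mul_one] at h1
    simp only [hθ_def, key x, h1, ← hc_def]
    field_simp
  let T : AddSubgroup K :=
    { carrier := {a | ∀ x, θ (a * x) = θ a * θ x}
      zero_mem' := fun x => by simp [hθ_def, Core.pt_zero hy]
      add_mem' := fun {a b} ha hb x => by rw [add_mul, hadd, hadd, ha, hb, add_mul]
      neg_mem' := fun {a} ha x => by
        have hneg : ∀ z, θ (-z) = -θ z := fun z => by
          simp only [hθ_def, hG.pt_neg hy, neg_div]
        rw [neg_mul, hneg, hneg, ha, neg_mul] }
  have hT : T = ⊤ := by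
    refine invariant_eq_top_of_le hG hA hbig T ?_ (x := 1) (fun x => by rw [one_mul, hone, one_mul])
      one_ne_zero
    intro h hh a ha x
    obtain ⟨u, rfl⟩ := hscal h hh
    rw [pt_mulP, mul_assoc, hU u hh, hU u hh, ha, mul_assoc]
  have hmul : ∀ a x, θ (a * x) = θ a * θ x := fun a => (hT ▸ AddSubgroup.mem_top a : a ∈ T)
  let θr : K →+* K :=
    { toFun := θ
      map_one' := hone
      map_mul' := hmul
      map_zero' := by simp [hθ_def, Core.pt_zero hy]
      map_add' := hadd }
  obtain ⟨z, hz⟩ := hscal _ hyy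
  have hψψ : ∀ x, pt y (pt y x) = z * x := fun x => by rw [← hG.pt_mul hy hy, hz, pt_mulP]
  have hinvol : ∀ x, θ (θ x) = x := by
    intro x
    have h1 : θ (pt y x) = θ (θ x) * θ c := by
      rw [← hmul, hθ_def]
      simp [div_mul_cancel₀, hc]
    have h2 : θ c = z / c := by
      simp only [hθ_def]
      rw [hc_def, hψψ, mul_one]
    have h3 : θ (pt y x) = z * x / c := by simp only [hθ_def, hψψ]
    rw [h3, h2] at h1
    have hzc : (z : K) / c ≠ 0 := div_ne_zero z.ne_zero hc
    apply mul_right_cancel₀ hzc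
    rw [← h1]
    ring
  haveI : CharP K p := charP_of_card_eq_prime_pow hK
  letI : Algebra (ZMod p) K := ZMod.algebra K p
  let θe : K ≃+* K := RingEquiv.ofBijective θr (Function.Involutive.bijective hinvol)
  let θa : K ≃ₐ[ZMod p] K := AlgEquiv.ofRingEquiv (f := θe) fun a =>
    RingHom.congr_fun (RingHom.ext_zmod ((θe : K →+* K).comp (algebraMap (ZMod p) K))
      (algebraMap (ZMod p) K)) a
  have hfr : Module.finrank (ZMod p) K = f := by
    have h := Module.natCard_eq_pow_finrank (K := ZMod p) (V := K)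
    rw [Nat.card_eq_fintype_card, hK, Nat.card_zmod] at h
    exact (Nat.pow_right_injective hp.out.two_le h).symm
  have hord : orderOf θa = 1 := by
    have h1 : orderOf θa ∣ 2 := orderOf_dvd_of_pow_eq_one (AlgEquiv.ext fun x => by
      rw [pow_two]; exact hinvol x)
    have h2 : orderOf θa ∣ f := by
      rw [← hfr, ← IsGalois.card_aut_eq_finrank (ZMod p) K]
      exact orderOf_dvd_natCard θa
    rcases (Nat.dvd_prime Nat.prime_two).1 h1 with h | h
    · exact h
    · exact absurd (h ▸ h2) hf.not_two_dvd_nat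
  rw [orderOf_eq_one_iff] at hord
  refine ⟨Units.mk0 c hc, ?_⟩
  ext1 o
  cases o with
  | none => rw [hy.2.1, mulP_none]
  | some x =>
    rw [hG.apply_stab hy, mulP_some, Units.val_mk0]
    have : θ x = x := AlgEquiv.congr_fun hord x
    rw [← this, hθ_def]
    simp only [← hc_def]
    congr 1
    rw [show pt y x / c = x from this]
    rw [show pt y x = x * c from (div_eq_iff hc).1 this, mul_comm]

/-- sharply 3-transitive, degree one more than an odd power of an odd prime -/
theorem pgl_of_odd (hG : Core G) {w : Equiv.Perm (Option V)} (hw : Swap G w) {p f : ℕ}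
    [hp : Fact p.Prime] (hp2 : p ≠ 2) (hf : Odd f) (hV : Nat.card V = p ^ f)
    (hfull : Nat.card (stab G) = Nat.card V - 1) :
    ∃ (K : Type) (_ : Field K) (_ : Fintype K), Fintype.card K = p ^ f ∧
      Nonempty (G ≃* Matrix.ProjGenLinGroup (Fin 2) K) := by
  classical
  have hoddV : Odd (Nat.card V) := hV ▸ (hp.out.odd_of_ne_two hp2).pow
  have hV1 : 1 < Nat.card V := Finite.one_lt_card
  -- the involution of the stabilizer
  haveI : Fact (Nat.Prime 2) := ⟨Nat.prime_two⟩
  obtain ⟨i, hi⟩ := exists_prime_orderOf_dvd_card' (G := stab G) 2 (by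
    rw [hfull]
    obtain ⟨j, hj⟩ := hoddV
    exact ⟨j, by omega⟩)
  have hi2 : (i : Equiv.Perm (Option V)) * i = 1 := by
    rw [← Subgroup.coe_mul, ← pow_two, ← hi, pow_orderOf_eq_one, Subgroup.coe_one]
  have hi1 : (i : Equiv.Perm (Option V)) ≠ 1 := fun e => by
    rw [show i = 1 from Subtype.ext e, orderOf_one] at hi; omega
  obtain ⟨hipt, -, hneg₀⟩ := neg_of_involution hG hw i.2 hi1 hi2
  -- renormalize
  obtain ⟨a, ha⟩ := exists_ne (0 : V)
  set φ := phi w a with hφ
  have hφm : φ ∈ stab G := phi_mem hG hw hneg₀ ha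
  set w' := φ⁻¹ * w with hw'_def
  have hw' : Swap G w' := by
    refine ⟨mul_mem (inv_mem hφm.1) hw.mem, ?_, ?_⟩
    · rw [hw'_def, Equiv.Perm.mul_apply, hw.none', Equiv.Perm.inv_eq_iff_eq, hφm.2.2]
    · rw [hw'_def, ← phi_inverted hG hw hneg₀ ha, ← hφ]
      calc w * φ * w * w * (w * φ * w * w) = w * φ * (w * w) * (w * φ * (w * w)) := by
            simp only [mul_assoc]
        _ = w * φ * w * φ := by rw [hw.sq]; simp only [mul_one, mul_assoc]
        _ = 1 := by rw [hφ, phi_inverted hG hw hneg₀ ha, inv_mul_cancel]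
  obtain ⟨-, hiw, hneg⟩ := neg_of_involution hG hw' i.2 hi1 hi2
  have hwa : pt w' a = -a := by
    refine pt_eq ?_
    rw [hw'_def, Equiv.Perm.mul_apply, (hw.apply_some ha).1, Equiv.Perm.inv_eq_iff_eq,
      hG.apply_stab hφm, hG.pt_neg hφm, hφ, phi_apply hG hw hneg₀ ha, neg_neg]
  -- the automorphism
  let σ : stab G →* stab G :=
    { toFun := fun h => ⟨w' * h * w', hw'.conj_mem h.2⟩
      map_one' := Subtype.ext (by simp [hw'.sq])
      map_mul' := fun g h => Subtype.ext (by
        show w' * (g * h : Equiv.Perm (Option V)) * w' = w' * g * w' * (w' * h * w')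
        simp only [mul_assoc]
        rw [← mul_assoc w' w', hw'.sq, one_mul]) }
  have hσ : Function.Involutive σ := fun h => Subtype.ext (by
    show w' * (w' * h * w') * w' = h
    simp only [← mul_assoc, hw'.sq, one_mul]
    rw [mul_assoc, hw'.sq, mul_one])
  have hfix : ∀ h, σ h = h → h = 1 ∨ h = i := by
    intro h hh
    have e : w' * (h : Equiv.Perm (Option V)) * w' = h := congrArg Subtype.val hh
    have hha : pt (h : Equiv.Perm (Option V)) a ≠ 0 := fun e0 => ha
      (Option.some.inj ((h : Equiv.Perm (Option V)).injective (by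
        rw [hG.apply_stab h.2, e0, h.2.2.2])))
    have h1 : pt w' (pt (h : Equiv.Perm (Option V)) a) = -pt (h : Equiv.Perm (Option V)) a := by
      refine pt_eq ?_
      rw [← hG.apply_stab h.2, ← Equiv.Perm.mul_apply,
        show w' * (h : Equiv.Perm (Option V)) = h * w' by
          calc w' * (h : Equiv.Perm (Option V)) = w' * h * (w' * w') := by rw [hw'.sq, mul_one]
            _ = _ := by rw [← mul_assoc, e],
        Equiv.Perm.mul_apply, (hw'.apply_some ha).1, hwa, hG.apply_stab h.2, hG.pt_neg h.2]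
    have hphi1 : ∀ b : V, b ≠ 0 → pt w' b = -b → phi w' b = 1 := fun b hb hwb => by
      refine hG.eq_of_pt (phi_mem hG hw' hneg hb) (one_mem _) hb ?_
      rw [phi_apply hG hw' hneg hb, hwb, neg_neg]
      rfl
    rcases eq_or_eq_neg hG hw' hneg hha ha (by rw [hphi1 a ha hwa, hphi1 _ hha h1]) with h' | h'
    · exact Or.inl (Subtype.ext (hG.eq_of_pt h.2 (one_mem _) ha h'))
    · exact Or.inr (Subtype.ext (hG.eq_of_pt h.2 i.2 ha (by rw [h', hipt])))
  obtain ⟨N, hNn, hNi, hNc, hND⟩ := half_abelian σ hσ i hi hfix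
    (sylow_two_cyclic hG hp2 hf hV hfull)
  set A := N.map (stab G).subtype with hA_def
  have hA : A ≤ stab G := Subgroup.map_subtype_le _
  have hbig : Nat.card V - 1 ≤ 2 * Nat.card A := by
    rw [hA_def, Subgroup.card_map_of_injective (stab G).subtype_injective, ← hfull,
      ← N.index_mul_card]
    exact Nat.mul_le_mul_right _ hNi
  have hn : ∀ y ∈ stab G, (∀ g ∈ A, y * g * y⁻¹ ∈ A) ∧ y * y ∈ A := by
    intro y hy
    refine ⟨?_, ⟨⟨y, hy⟩ * ⟨y, hy⟩, ?_, rfl⟩⟩
    · rintro _ ⟨g, hg, rfl⟩
      exact ⟨_, hNn.conj_mem g hg ⟨y, hy⟩, rfl⟩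
    · rcases Nat.lt_or_ge N.index 2 with h1 | h1
      · have : N.index ≠ 0 := Subgroup.index_ne_zero_of_finite
        rw [Subgroup.index_eq_one.1 (show N.index = 1 by omega)]
        exact Subgroup.mem_top _
      · exact Subgroup.mul_self_mem_of_index_two (le_antisymm hNi h1) _
  obtain ⟨K, iK, iK', e, he⟩ := exists_field_of_le hG hA hbig (by
    rintro _ ⟨g, hg, rfl⟩ _ ⟨k, hk, rfl⟩
    rw [← map_mul, ← map_mul, hNc g hg k hk])
  have hK : Fintype.card K = p ^ f := by
    rw [← Nat.card_eq_fintype_card, Nat.card_congr e.toEquiv, hV]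
  -- move everything to `K`
  set G' := G.map (relabel e).toMonoidHom with hG'
  set A' := A.map (relabel e).toMonoidHom with hA'
  set u' := relabel e w' with hu'
  have hGK : Core G' := hG.relabel
  have hwK : Swap G' u' := hw'.relabel
  have hA'le : A' ≤ stab G' := by
    rintro _ ⟨g, hg, rfl⟩
    exact stab_relabel (hA hg)
  have hscalA : ∀ g ∈ A', ∃ u : Kˣ, g = mulP u := by
    rintro _ ⟨h, hh, rfl⟩
    obtain ⟨u, hu⟩ := he h hh
    refine ⟨u, ?_⟩
    ext1 z
    cases z with
    | none => simp [relabel_apply, (hA hh).2.1]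
    | some x => simp [relabel_apply, hG.apply_stab (hA hh), hu]
  have hall : ∀ y ∈ stab G', ∃ u : Kˣ, y = mulP u := by
    refine all_scalar hf hK hGK hA'le ?_ hscalA fun y hy => ?_
    · rw [hA', Subgroup.card_map_of_injective (relabel e).injective, Nat.card_congr e.toEquiv]
      exact hbig
    · obtain ⟨y₀, hy₀, rfl⟩ := mem_stab_relabel hy
      refine ⟨?_, ⟨_, (hn y₀ hy₀).2, map_mul _ _ _⟩⟩
      rintro _ ⟨g, hg, rfl⟩
      exact ⟨_, (hn y₀ hy₀).1 g hg, by simp⟩
  have hcardK : Nat.card Kˣ = Nat.card (mults G') := by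
    rw [card_mults hall, hG', card_stab_relabel, hfull, Nat.card_units, Nat.card_congr e.toEquiv]
  have htop : ∀ u : Kˣ, u ∈ mults G' := fun u =>
    (Subgroup.eq_top_of_card_eq _ hcardK.symm) ▸ Subgroup.mem_top u
  have hnegK : ∀ x : K, x ≠ 0 → pt u' (-x) = -pt u' x := by
    intro x hx
    have hex : e x ≠ 0 := by simpa using hx
    have hx1 : pt u' x = e.symm (pt w' (e x)) := pt_eq (by
      simp [hu', relabel_apply, (hw'.apply_some hex).1])
    have hx2 : pt u' (-x) = e.symm (pt w' (-e x)) := pt_eq (by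
      simp [hu', relabel_apply, map_neg, (hw'.apply_some (neg_ne_zero.2 hex)).1])
    rw [hx1, hx2, hneg _ hex, map_neg]
  -- the quotient map and the squares
  let cj : Kˣ → Equiv.Perm (Option K) := fun u => u' * mulP u * u'
  have hcj : ∀ u, ∃ v : Kˣ, cj u = mulP v := fun u =>
    hall _ (hwK.conj_mem (mulP_mem_stab (htop u)))
  choose r hr using hcj
  have hmulP : ∀ a b : Kˣ, mulP (a * b) = mulP a * mulP b := fun a b => map_mul (mulPHom K) a b
  have hinjP : Function.Injective (mulP (K := K)) := fun a b h => by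
    have := congrArg (fun g => pt g 1) h
    simp only [pt_mulP, mul_one] at this
    exact Units.ext this
  have hrmul : ∀ a b, r (a * b) = r a * r b := fun a b => hinjP (by
    rw [hmulP, ← hr, ← hr, ← hr]
    show u' * mulP (a * b) * u' = u' * mulP a * u' * (u' * mulP b * u')
    rw [hmulP]
    simp only [mul_assoc]
    rw [← mul_assoc u' u' (mulP b * u'), hwK.sq, one_mul])
  have hrr : ∀ a, r (r a) = a := fun a => hinjP (by
    rw [← hr]
    show u' * mulP (r a) * u' = mulP a
    rw [← hr]
    show u' * (u' * mulP a * u') * u' = mulP a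
    simp only [← mul_assoc, hwK.sq, one_mul]
    rw [mul_assoc, hwK.sq, mul_one])
  have hr1 : r 1 = 1 := by
    have h := hrmul 1 1
    rw [mul_one] at h
    exact mul_eq_left.1 h.symm
  let δ : Kˣ →* Kˣ :=
    { toFun := fun v => v⁻¹ * r v
      map_one' := by rw [hr1, inv_one, mul_one]
      map_mul' := fun a b => by rw [hrmul, mul_inv, mul_mul_mul_comm] }
  have hδinv : ∀ v ∈ δ.range, r v = v⁻¹ := by
    rintro _ ⟨v, rfl⟩
    show r (v⁻¹ * r v) = (v⁻¹ * r v)⁻¹
    have h1 : r v⁻¹ * r v = 1 := by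
      rw [← hrmul, inv_mul_cancel, hr1]
    rw [hrmul, hrr, eq_inv_of_mul_eq_one_left h1, mul_inv_rev, inv_inv]
  have hker : Nat.card δ.ker ≤ 2 := by
    have hmem : ∀ v : δ.ker, ∀ (h : Equiv.Perm (Option V)), relabel e h = mulP (v : Kˣ) →
        ∀ hh : h ∈ stab G, (⟨h, hh⟩ : stab G) = 1 ∨ (⟨h, hh⟩ : stab G) = i := by
      intro v h hv hh
      refine hfix _ (Subtype.ext ?_)
      apply (relabel e).injective
      show relabel e (w' * h * w') = relabel e h
      rw [map_mul, map_mul, hv]
      show cj (v : Kˣ) = mulP (v : Kˣ)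
      rw [hr]
      exact congrArg mulP (inv_mul_eq_one.1 (show (v : Kˣ)⁻¹ * r v = 1 from v.2)).symm
    have hlift : ∀ v : δ.ker, ∃ h : stab G, relabel e (h : Equiv.Perm (Option V)) = mulP (v : Kˣ) :=
      fun v => by
        obtain ⟨h, hh, he'⟩ := mem_stab_relabel (mulP_mem_stab (htop (v : Kˣ)))
        exact ⟨⟨h, hh⟩, he'⟩
    choose g hg using hlift
    have hg' : ∀ v, g v ∈ ({1, i} : Finset (stab G)) := fun v => by
      simpa using hmem v _ (hg v) (g v).2
    calc Nat.card δ.ker ≤ Nat.card ({1, i} : Finset (stab G)) :=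
          Nat.card_le_card_of_injective (fun v => (⟨g v, hg' v⟩ : ({1, i} : Finset (stab G))))
            fun a b h => by
              have := congrArg Subtype.val h
              exact Subtype.ext (hinjP (by rw [← hg a, ← hg b]; exact congrArg (relabel e) (congrArg Subtype.val this)))
      _ ≤ 2 := by rw [Nat.card_eq_finsetCard]; exact Finset.card_le_two
  have hsq : ∀ v : Kˣ, v * v ∈ δ.range := by
    intro v
    have h1 : δ.range.index ≤ 2 := by
      have h2 := δ.range.index_mul_card
      rw [← Subgroup.index_ker] at h2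
      have h3 := δ.ker.card_mul_index
      have h4 : δ.ker.index ≠ 0 := Subgroup.index_ne_zero_of_finite
      have h5 : δ.range.index = Nat.card δ.ker :=
        Nat.eq_of_mul_eq_mul_right (Nat.pos_of_ne_zero h4) (h2.trans h3.symm)
      rw [h5]; exact hker
    rcases Nat.lt_or_ge δ.range.index 2 with h | h
    · have : δ.range.index ≠ 0 := Subgroup.index_ne_zero_of_finite
      rw [Subgroup.index_eq_one.1 (show δ.range.index = 1 by omega)]
      exact Subgroup.mem_top _
    · exact Subgroup.mul_self_mem_of_index_two (le_antisymm h1 h) _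
  -- the squares
  set U : Subgroup Kˣ := (powMonoidHom 2 : Kˣ →* Kˣ).range with hU_def
  have hUinv : ∀ u ∈ U, ∀ x : K, x ≠ 0 → pt u' (u * x) = ((u⁻¹ : Kˣ) : K) * pt u' x := by
    rintro _ ⟨v, rfl⟩ x hx
    have hv : r (v * v) = (v * v)⁻¹ := hδinv _ (hsq v)
    rw [powMonoidHom_apply, pow_two]
    have e' : u' * mulP (v * v) = mulP (v * v)⁻¹ * u' := by
      rw [← hv, ← hr]
      show u' * mulP (v * v) = u' * mulP (v * v) * u' * u'
      rw [mul_assoc _ u' u', hwK.sq, mul_one]
    refine pt_eq ?_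
    have := congrFun (congrArg DFunLike.coe e') (some x)
    simpa [Equiv.Perm.mul_apply, (hwK.apply_some hx).1] using this
  have hchar : ringChar K ≠ 2 := by
    intro h
    have h1 := FiniteField.even_card_of_char_two h
    rw [hK, ← hV] at h1
    obtain ⟨j, hj⟩ := hoddV
    omega
  have hUidx : U.index = 2 := by
    have h1 := U.index_mul_card
    rw [hU_def, ← Subgroup.index_ker] at h1
    have h2 := (powMonoidHom 2 : Kˣ →* Kˣ).ker.card_mul_index
    have hk : Nat.card (powMonoidHom 2 : Kˣ →* Kˣ).ker = 2 := by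
      have h2' : orderOf (-1 : Kˣ) = 2 := by
        rw [← orderOf_units, Units.val_neg, Units.val_one, orderOf_neg_one, if_neg hchar]
      have hz : (powMonoidHom 2 : Kˣ →* Kˣ).ker = Subgroup.zpowers (-1 : Kˣ) := ?_
      · rw [hz, Nat.card_zpowers, h2']
      refine le_antisymm (fun u hu => ?_) ?_
      · have hu' : (u : K) * u = 1 := by
          rw [← Units.val_mul, ← pow_two, show u ^ 2 = 1 from hu, Units.val_one]
        rcases mul_self_eq_one_iff.1 hu' with h | h
        · rw [show u = 1 from Units.ext h]; exact one_mem _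
        · rw [show u = -1 from Units.ext (by simpa using h)]; exact Subgroup.mem_zpowers _
      · rw [Subgroup.zpowers_le]
        exact show (-1 : Kˣ) ^ 2 = 1 by simp
    have h4 : (powMonoidHom 2 : Kˣ →* Kˣ).ker.index ≠ 0 := Subgroup.index_ne_zero_of_finite
    rw [hU_def]
    exact Nat.eq_of_mul_eq_mul_right (Nat.pos_of_ne_zero h4) (h1.trans (h2.symm.trans (by rw [hk])))
  have hconst := const_of_neg hGK hwK hnegK hall hUidx hUinv (htop _)
  obtain ⟨-, hc⟩ := hwK.apply_some (one_ne_zero (α := K))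
  have hnegInv : negInv K ∈ G' := negInv_mem hwK
    (v := Units.mk0 (-(pt u' 1)⁻¹) (by simpa using hc)) (htop _) fun x hx => by
      rw [hconst x hx, Units.val_mk0]
      field_simp
  exact ⟨K, iK, iK', hK, ⟨(G.equivMapOfInjective _ (relabel e).injective).trans
    (pgl_iso G' hGK.tr_mem htop hnegInv fun g hg h h0 => hall g ⟨hg, h, h0⟩).some⟩⟩

/-- sharply 3-transitive of degree one more than an odd power of an odd prime, on the points -/
theorem Frame3.pgl_of_odd {G Ω : Type*} [Group G] [MulAction G Ω] [Finite Ω] {x b : Ω}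
    {F : Subgroup G} (h : Frame3 x b F) {s : G} (hsx : s • x = b) (hs : s * s = 1) {p f : ℕ}
    (hp : p.Prime) (hp2 : p ≠ 2) (hf : Odd f) (hΩ : Nat.card Ω = p ^ f + 1)
    (hcard : Nat.card Ω = Nat.card ↥(MulAction.stabilizer G x ⊓ MulAction.stabilizer G b) + 2) :
    ∃ (K : Type) (_ : Field K) (_ : Fintype K), Fintype.card K = p ^ f ∧
      Nonempty (G ≃* Matrix.ProjGenLinGroup (Fin 2) K) := by
  letI := h.commGroup
  haveI := h.finite
  haveI := Fact.mk hp
  rw [← h.card_stab] at hcard
  have hl := h.card_line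
  have hpos : 0 < Nat.card (stab h.rep.range) := Nat.card_pos
  haveI : Nontrivial (Additive F) := Finite.one_lt_card_iff_nontrivial.1 (by omega)
  obtain ⟨K, i1, i2, hK, hne⟩ := Zassenhaus.pgl_of_odd h.core (h.swap hsx hs) hp2 hf (by omega)
    (by omega)
  exact ⟨K, i1, i2, hK, ⟨(MonoidHom.ofInjective h.rep_injective).trans hne.some⟩⟩

end Cfsg.Agent.Perm.Zassenhaus
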