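import Mathlib

/-!
# Groups with an abelian regular normal subgroup and a transitive abelian part in a stabilizer
are semi-affine over a field
-/

set_option autoImplicit false

namespace Cfsg.Agent.Perm.Zassenhaus

/-- a commutative group transitive on the nonzero elements spans a field -/
theorem field_of_transitive {V A : Type*} [AddCommGroup V] [Finite V] [Nontrivial V] [Group A]
    (hA : ∀ a b : A, a * b = b * a) (ρ : A →* AddMonoid.End V)
    (htr : ∀ x y : V, x ≠ 0 → y ≠ 0 → ∃ a, ρ a x = y) :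
    ∃ (K : Type) (_ : Field K) (_ : Fintype K) (e : K ≃+ V),
      (∀ a, ∃ u : K, u ≠ 0 ∧ ∀ x, ρ a (e x) = e (u * x)) ∧
      ∀ u : K, u ≠ 0 → ∃ a, ∀ x, ρ a (e x) = e (u * x) := by
  classical
  set S := Subring.closure (Set.range ρ)
  letI : CommRing S := Subring.closureCommRingOfComm (by
    rintro _ ⟨g, rfl⟩ _ ⟨h, rfl⟩
    rw [← map_mul, ← map_mul, hA])
  have hgen : ∀ a, ρ a ∈ S := fun a => Subring.subset_closure ⟨a, rfl⟩
  obtain ⟨v₀, hv₀⟩ := exists_ne (0 : V)
  let ev : S →+ V := AddMonoidHom.mk' (fun r => (r : AddMonoid.End V) v₀) fun _ _ => rfl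
  have hinj : Function.Injective ev := by
    refine (injective_iff_map_eq_zero ev).2 fun r hr => Subtype.ext (AddMonoidHom.ext fun x => ?_)
    by_cases hx : x = 0
    · subst hx
      exact (r : AddMonoid.End V).map_zero
    obtain ⟨a, rfl⟩ := htr v₀ x hv₀ hx
    show ((r : AddMonoid.End V) * ρ a) v₀ = 0
    rw [show (r : AddMonoid.End V) * ρ a = ρ a * r from
      congrArg Subtype.val (mul_comm r ⟨_, hgen a⟩)]
    show ρ a (ev r) = 0
    rw [hr, map_zero]
  have hsurj : Function.Surjective ev := fun y => by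
    by_cases hy : y = 0
    · exact ⟨0, hy.symm⟩
    · obtain ⟨a, ha⟩ := htr v₀ y hv₀ hy
      exact ⟨⟨_, hgen a⟩, ha⟩
  have hunit : ∀ r : S, r ≠ 0 → ∃ a, r = ⟨_, hgen a⟩ := fun r hr => by
    obtain ⟨a, ha⟩ := htr v₀ (ev r) hv₀ fun e => hr (hinj (e.trans (map_zero ev).symm))
    exact ⟨a, hinj ha.symm⟩
  haveI : Finite S := Finite.of_injective ev hinj
  haveI : Nontrivial S := ⟨0, 1, fun e => hv₀ (by
    simpa using (DFunLike.congr_fun (congrArg Subtype.val e) v₀).symm)⟩
  have hne : ∀ a, (⟨_, hgen a⟩ : S) ≠ 0 := fun a e => by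
    have h1 : (⟨_, hgen a⟩ : S) * ⟨_, hgen a⁻¹⟩ = 1 :=
      Subtype.ext (show ρ a * ρ a⁻¹ = 1 by rw [← map_mul, mul_inv_cancel, map_one])
    rw [e, zero_mul] at h1
    exact zero_ne_one h1
  haveI : IsDomain S := by
    haveI : NoZeroDivisors S := ⟨fun {r s} h => by
      by_contra! hcon
      obtain ⟨a, ha⟩ := hunit r hcon.1
      obtain ⟨b, hb⟩ := hunit s hcon.2
      refine hne (a * b) ?_
      rw [ha, hb] at h
      rw [← h]
      exact Subtype.ext (map_mul ρ a b)⟩
    exact NoZeroDivisors.to_isDomain _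
  haveI : Fintype S := Fintype.ofFinite S
  letI : Field S := Fintype.fieldOfDomain S
  obtain ⟨n, ⟨ε'⟩⟩ := Finite.exists_equiv_fin S
  obtain ⟨K, iK, iK', ⟨ε⟩⟩ : ∃ (K : Type) (_ : Field K) (_ : Fintype K), Nonempty (K ≃+* S) :=
    ⟨Fin n, ε'.symm.field, inferInstance, ⟨ε'.symm.ringEquiv⟩⟩
  refine ⟨K, iK, iK', ε.toAddEquiv.trans (AddEquiv.ofBijective ev ⟨hinj, hsurj⟩),
    fun a => ⟨ε.symm ⟨_, hgen a⟩, by rw [ne_eq, RingEquiv.map_eq_zero_iff]; exact hne a,
      fun x => ?_⟩, fun u hu => ?_⟩
  · show ρ a (ev (ε x)) = ev (ε (_ * x))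
    rw [map_mul, RingEquiv.apply_symm_apply]
    rfl
  · obtain ⟨a, ha⟩ := hunit (ε u) (by rwa [ne_eq, RingEquiv.map_eq_zero_iff])
    refine ⟨a, fun x => ?_⟩
    show ρ a (ev (ε x)) = ev (ε (u * x))
    rw [map_mul, ha]
    rfl

variable {G α : Type*} [Group G] [MulAction G α] [Finite α]

/-- semi-affine coordinates -/
theorem semiaffine_of_regular [FaithfulSMul G α] {p q : ℕ} [hp : Fact p.Prime] (hq : q ≠ 0)
    (hα : Nat.card α = p ^ q) (R : Subgroup G) [R.Normal] (hRc : ∀ u ∈ R, ∀ v ∈ R, u * v = v * u)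
    (hR : ∀ y z : α, ∃! r : R, (r : G) • y = z) (a : α) (P : Subgroup G)
    (hPa : ∀ u ∈ P, u • a = a) (hPc : ∀ u ∈ P, ∀ v ∈ P, u * v = v * u)
    (hPn : ∀ g : G, g • a = a → ∀ u ∈ P, g * u * g⁻¹ ∈ P)
    (hP : ∀ y z : α, y ≠ a → z ≠ a → ∃ u ∈ P, u • y = z) :
    ∃ e : α ≃ GaloisField p q,
      (∀ g : G, ∃ (c : (GaloisField p q)ˣ) (v : GaloisField p q)
        (φ : GaloisField p q ≃+* GaloisField p q), ∀ y, e (g • y) = c * φ (e y) + v) ∧
      ∀ b : α, b ≠ a → Nat.card ↥(MulAction.stabilizer G a ⊓ MulAction.stabilizer G b) ∣ q := by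
  classical
  haveI : Nontrivial α := by
    refine Finite.one_lt_card_iff_nontrivial.1 ?_
    rw [hα]; exact Nat.one_lt_pow hq hp.out.one_lt
  letI : CommGroup R :=
    { (inferInstance : Group R) with mul_comm := fun u v => Subtype.ext (hRc u u.2 v v.2) }
  let pnt : Additive R ≃ α := Equiv.ofBijective (fun r => ((Additive.toMul r : R) : G) • a)
    ⟨fun r s h => Additive.toMul.injective ((hR a _).unique h rfl), fun y => by
      obtain ⟨r, hr, -⟩ := hR a y
      exact ⟨Additive.ofMul r, hr⟩⟩
  have hpnt : ∀ r : Additive R, pnt r = ((Additive.toMul r : R) : G) • a := fun r => rfl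
  haveI : Finite (Additive R) := Finite.of_equiv α pnt.symm
  haveI : Nontrivial (Additive R) := pnt.nontrivial
  -- conjugation
  let cj : G → AddMonoid.End (Additive R) := fun g =>
    MonoidHom.toAdditive (MulAut.conjNormal (H := R) g).toMonoidHom
  have hcj : ∀ g (r : Additive R),
      ((Additive.toMul (cj g r) : R) : G) = g * ((Additive.toMul r : R) : G) * g⁻¹ := fun g r =>
    MulAut.conjNormal_apply g _
  have hcmul : ∀ g k, cj (g * k) = cj g * cj k := fun g k => AddMonoidHom.ext fun r =>
    Additive.toMul.injective (Subtype.ext ((hcj _ _).trans (Eq.trans (by group)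
      ((hcj g (cj k r)).trans (congrArg (fun z => g * z * g⁻¹) (hcj k r))).symm)))
  have hmove : ∀ g : G, g • a = a → ∀ r, pnt (cj g r) = g • pnt r := fun g hg r => by
    rw [hpnt, hpnt, hcj, mul_smul, mul_smul, inv_smul_eq_iff.2 hg.symm]
  let ρ : P →* AddMonoid.End (Additive R) :=
    { toFun := fun u => cj u
      map_one' := AddMonoidHom.ext fun r => Additive.toMul.injective (Subtype.ext
        ((hcj _ _).trans (show ((1:P):G) * _ * ((1:P):G)⁻¹ = _ by simp; rfl)))
      map_mul' := fun u v => hcmul u v }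
  obtain ⟨K₀, iK, iK', e₀, hscal, hunit⟩ :=
    field_of_transitive (fun u v : P => Subtype.ext (hPc u u.2 v v.2)) ρ (fun x y hx hy => by
      have hx' : pnt x ≠ a := fun h => hx (pnt.injective (h.trans (by simp [hpnt])))
      have hy' : pnt y ≠ a := fun h => hy (pnt.injective (h.trans (by simp [hpnt])))
      obtain ⟨u, hu, huy⟩ := hP _ _ hx' hy'
      exact ⟨⟨u, hu⟩, pnt.injective ((hmove u (hPa u hu) x).trans huy)⟩)
  -- the field is the Galois field
  haveI : Fintype (GaloisField p q) := Fintype.ofFinite _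
  have hcK : Fintype.card K₀ = Fintype.card (GaloisField p q) := by
    rw [← Nat.card_eq_fintype_card, ← Nat.card_eq_fintype_card, GaloisField.card p q hq,
      Nat.card_congr (e₀.toEquiv.trans pnt), hα]
  let η : K₀ ≃+* GaloisField p q := FiniteField.ringEquivOfCardEq hcK
  let e' : GaloisField p q ≃+ Additive R := η.symm.toAddEquiv.trans e₀
  have hscal' : ∀ u : P, ∃ c : GaloisField p q, c ≠ 0 ∧ ∀ x, ρ u (e' x) = e' (c * x) := fun u => by
    obtain ⟨c, hc, h⟩ := hscal u
    exact ⟨η c, by rwa [ne_eq, RingEquiv.map_eq_zero_iff], fun x => by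
      simp [e', h]⟩
  have hunit' : ∀ c : GaloisField p q, c ≠ 0 → ∃ u : P, ∀ x, ρ u (e' x) = e' (c * x) := fun c hc => by
    obtain ⟨u, hu⟩ := hunit (η.symm c) (by rwa [ne_eq, RingEquiv.map_eq_zero_iff])
    exact ⟨u, fun x => by simp [e', hu]⟩
  -- elements fixing `a` are semilinear
  have hsemi : ∀ g : G, g • a = a → ∃ φ : GaloisField p q ≃+* GaloisField p q,
      e'.symm (cj g (e' 1)) ≠ 0 ∧ ∀ x, e'.symm (cj g (e' x)) = e'.symm (cj g (e' 1)) * φ x := by
    intro g hg
    set ψ : GaloisField p q → GaloisField p q := fun x => e'.symm (cj g (e' x)) with hψ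
    have hbij : Function.Bijective ψ := by
      refine Finite.injective_iff_bijective.1 fun x y h => ?_
      have h1 := congrArg (fun z => cj g⁻¹ (e' z)) h
      simp only [hψ, AddEquiv.apply_symm_apply] at h1
      have h2 : ∀ r, cj g⁻¹ (cj g r) = r := fun r => Additive.toMul.injective (Subtype.ext (by
        rw [hcj, hcj]; group))
      rw [h2, h2] at h1
      exact e'.injective h1
    have hadd : ∀ x y, ψ (x + y) = ψ x + ψ y := fun x y => by simp [hψ, map_add]
    have h0 : ψ 0 = 0 := by simp [hψ]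
    have hc : ψ 1 ≠ 0 := fun h => one_ne_zero (hbij.1 (h.trans h0.symm))
    have hmul : ∀ u x, ψ (u * x) * ψ 1 = ψ u * ψ x := by
      intro u x
      by_cases hu : u = 0
      · simp [hu, h0]
      obtain ⟨k, hk⟩ := hunit' u hu
      obtain ⟨c, -, hc'⟩ := hscal' ⟨g * k * g⁻¹, hPn g hg k k.2⟩
      have key : ∀ z, ψ (u * z) = c * ψ z := fun z => by
        apply e'.injective
        simp only [hψ, AddEquiv.apply_symm_apply]
        rw [← hc', AddEquiv.apply_symm_apply, ← hk]
        show (cj g * cj k) (e' z) = (cj (g * k * g⁻¹) * cj g) (e' z)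
        rw [← hcmul, ← hcmul, inv_mul_cancel_right]
      have h1 := key 1
      rw [mul_one] at h1
      rw [key x, h1]
      ring
    let θ : GaloisField p q →+* GaloisField p q :=
      { toFun := fun x => ψ x / ψ 1
        map_one' := div_self hc
        map_mul' := fun x y => by
          field_simp
          linear_combination hmul x y
        map_zero' := by simp [h0]
        map_add' := fun x y => by rw [hadd, add_div] }
    refine ⟨RingEquiv.ofBijective θ (Finite.injective_iff_bijective.1 θ.injective), hc, fun x => ?_⟩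
    show ψ x = ψ 1 * (ψ x / ψ 1)
    field_simp
  refine ⟨(e'.toEquiv.trans pnt).symm, fun g => ?_, fun b hb => ?_⟩
  · obtain ⟨r, hr, -⟩ := hR a (g • a)
    have hk : ((r : G)⁻¹ * g) • a = a := by rw [mul_smul, inv_smul_eq_iff, hr]
    obtain ⟨φ, hc, hφ⟩ := hsemi _ hk
    refine ⟨Units.mk0 _ hc, e'.symm (Additive.ofMul r), φ, fun y => ?_⟩
    obtain ⟨x, rfl⟩ := (e'.toEquiv.trans pnt).surjective y
    rw [Equiv.symm_apply_apply, Units.val_mk0, ← hφ, ← map_add, Equiv.symm_apply_eq]
    show g • pnt (e' x) = pnt (e' (e'.symm _))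
    rw [AddEquiv.apply_symm_apply, add_comm, hpnt (Additive.ofMul r + _), toMul_add,
      Subgroup.coe_mul, mul_smul, ← hpnt (cj _ _), hmove _ hk, toMul_ofMul, ← mul_smul,
      mul_inv_cancel_left]
  · -- the pair stabilizer embeds in the field automorphisms
    set x₀ := (e'.toEquiv.trans pnt).symm b with hx₀
    have hx0 : x₀ ≠ 0 := by
      intro h
      apply hb
      have := congrArg (e'.toEquiv.trans pnt) h
      rw [hx₀, Equiv.apply_symm_apply] at this
      rw [this]
      simp [hpnt]
    have hfix : ∀ g : ↥(MulAction.stabilizer G a ⊓ MulAction.stabilizer G b),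
        cj (g : G) (e' x₀) = e' x₀ := fun g => pnt.injective (by
      rw [hmove _ g.2.1]
      have : pnt (e' x₀) = b := (e'.toEquiv.trans pnt).apply_symm_apply b
      rw [this]
      exact g.2.2)
    let τ : ↥(MulAction.stabilizer G a ⊓ MulAction.stabilizer G b) →
        GaloisField p q → GaloisField p q := fun g x => e'.symm (cj (g : G) (e' (x₀ * x))) / x₀
    have hτ1 : ∀ g, τ g 1 = 1 := fun g => by simp [τ, hfix g, hx0]
    have hτmul : ∀ g x y, τ g (x * y) = τ g x * τ g y := by
      intro g x y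
      obtain ⟨φ, hc, hφ⟩ := hsemi (g : G) g.2.1
      have hτ : ∀ z, τ g z = e'.symm (cj (g : G) (e' 1)) * φ x₀ * φ z / x₀ := fun z => by
        show e'.symm (cj (g : G) (e' (x₀ * z))) / x₀ = _
        conv_lhs => rw [hφ (x₀ * z), map_mul]
        ring
      have h1 := hτ1 g
      rw [hτ, φ.map_one, mul_one] at h1
      have h2 : ∀ z, τ g z = φ z := fun z => by
        rw [hτ, mul_div_right_comm, h1, one_mul]
      rw [h2, h2, h2, map_mul]
    have hτadd : ∀ g x y, τ g (x + y) = τ g x + τ g y := fun g x y => by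
      simp [τ, mul_add, add_div]
    let T : ↥(MulAction.stabilizer G a ⊓ MulAction.stabilizer G b) →*
        (GaloisField p q →+* GaloisField p q) :=
      { toFun := fun g =>
          { toFun := τ g
            map_one' := hτ1 g
            map_mul' := hτmul g
            map_zero' := by simp [τ]
            map_add' := hτadd g }
        map_one' := RingHom.ext fun x => by
          show τ 1 x = x
          have h1 : ∀ r, cj 1 r = r := fun r => Additive.toMul.injective (Subtype.ext (by
            rw [hcj]; simp))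
          simp [τ, h1, hx0]
        map_mul' := fun g k => RingHom.ext fun x => by
          show τ (g * k) x = τ g (τ k x)
          simp only [τ, Subgroup.coe_mul, hcmul, AddMonoid.End.coe_mul, Function.comp_apply]
          rw [mul_div_cancel₀ _ hx0, AddEquiv.apply_symm_apply] }
    let Ta : ↥(MulAction.stabilizer G a ⊓ MulAction.stabilizer G b) →*
        (GaloisField p q →ₐ[ZMod p] GaloisField p q) :=
      { toFun := fun g => { T g with
          commutes' := fun c => RingHom.congr_fun
            (RingHom.ext_zmod ((T g).comp (algebraMap (ZMod p) (GaloisField p q))) _) c }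
        map_one' := AlgHom.ext fun x => RingHom.congr_fun (map_one T) x
        map_mul' := fun g k => AlgHom.ext fun x => RingHom.congr_fun (map_mul T g k) x }
    have hinj : Function.Injective Ta.toHomUnits := by
      intro g k h
      have h' : ∀ x, τ g x = τ k x := fun x => AlgHom.congr_fun (congrArg Units.val h) x
      refine Subtype.ext (eq_of_smul_eq_smul (α := α) fun y => ?_)
      obtain ⟨x, rfl⟩ := (e'.toEquiv.trans pnt).surjective y
      show (g : G) • pnt (e' x) = (k : G) • pnt (e' x)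
      rw [← hmove _ g.2.1, ← hmove _ k.2.1]
      congr 1
      have h2 := h' (x / x₀)
      simp only [τ, mul_div_cancel₀ _ hx0, div_left_inj' hx0] at h2
      exact e'.symm.injective h2
    have hd := Subgroup.card_dvd_of_injective Ta.toHomUnits hinj
    have hu : Nat.card (GaloisField p q →ₐ[ZMod p] GaloisField p q)ˣ = q := by
      rw [Nat.card_congr (AlgEquiv.algHomUnitsEquiv (ZMod p) (GaloisField p q)).toEquiv,
        IsGalois.card_aut_eq_finrank, GaloisField.finrank p hq]
    rwa [hu] at hd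

end Cfsg.Agent.Perm.Zassenhaus
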